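import Mathlib
import Cfsg.Prelude
import Cfsg.Agent.Lib.Helper5.OAut.SplitCount

set_option autoImplicit false
set_option linter.unusedSectionVars false
set_option linter.unusedVariables false

/-! An abstract count of the classes into which a class splits, when the centraliser meets at
most two cosets of the smaller group. -/

namespace Cfsg.Agent.Lib.Helper5.PlusField

open Cfsg Cfsg.Agent.Lib.Helper5.OAut

section count
variable {X : Type*} [Group X]

/-- if the centraliser lies in the small subgroup, the count is the full index -/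
theorem splitClassCount_of_cent_le (H K : Subgroup X) [hKn : K.Normal] (hKH : K ≤ H) (x : X)
    (hC : ∀ c ∈ H, c * x = x * c → c ∈ K) :
    splitClassCount H K x = K.relIndex H := by
  rw [splitClassCount_eq H K hKH x]
  congr 1
  apply le_antisymm
  · intro y hy
    rw [mem_stabSub_iff] at hy
    obtain ⟨k, hk, c, hc, hcx, rfl⟩ := hy
    exact K.mul_mem hk (hC c hc hcx)
  · exact le_stabSub H K x

/-- if the centraliser meets exactly two cosets of the small subgroup, the count is half the
index -/
theorem splitClassCount_of_cent_two (H K : Subgroup X) [hKn : K.Normal] (hKH : K ≤ H) (x : X)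
    (κ : X) (hκH : κ ∈ H) (hκx : κ * x = x * κ) (hκK : κ ∉ K)
    (hC : ∀ c ∈ H, c * x = x * c → c ∈ K ∨ c * κ⁻¹ ∈ K) :
    2 * splitClassCount H K x = K.relIndex H := by
  rw [splitClassCount_eq H K hKH x]
  have hle : K ≤ stabSub H K x := le_stabSub H K x
  have hle2 : stabSub H K x ≤ H := stabSub_le H K hKH x
  rw [← Subgroup.relIndex_mul_relIndex K (stabSub H K x) H hle hle2]
  congr 1
  symm
  unfold Subgroup.relIndex
  rw [Subgroup.index_eq_two_iff]
  have hκS : κ ∈ stabSub H K x := by
    rw [mem_stabSub_iff]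
    exact ⟨1, K.one_mem, κ, hκH, hκx, one_mul κ⟩
  refine ⟨⟨κ⁻¹, (stabSub H K x).inv_mem hκS⟩, ?_⟩
  intro b
  have hb := b.2
  rw [mem_stabSub_iff] at hb
  obtain ⟨k, hk, c, hc, hcx, hkc⟩ := hb
  rw [Subgroup.mem_subgroupOf, Subgroup.mem_subgroupOf]
  show Xor' ((b : X) * κ⁻¹ ∈ K) ((b : X) ∈ K)
  rw [← hkc]
  rcases hC c hc hcx with h1 | h1
  · right
    refine ⟨K.mul_mem hk h1, ?_⟩
    intro h2
    apply hκK
    have h3 : κ = (k * c * κ⁻¹)⁻¹ * (k * c) := by group
    rw [h3]
    exact K.mul_mem (K.inv_mem h2) (K.mul_mem hk h1)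
  · left
    refine ⟨by rw [mul_assoc]; exact K.mul_mem hk h1, ?_⟩
    intro h2
    apply hκK
    have h3 : κ = (k * c * κ⁻¹)⁻¹ * (k * c) := by group
    rw [h3]
    exact K.mul_mem (K.inv_mem (by rw [mul_assoc]; exact K.mul_mem hk h1)) h2

end count

end Cfsg.Agent.Lib.Helper5.PlusField
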