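import Mathlib
import Cfsg.Prelude
import Cfsg.Agent.Lib.Helper5.OAut.SimParity
import Cfsg.Agent.Lib.Helper5.OAut.InndiagPlus
import Cfsg.Agent.Lib.Helper5.PlusGeom
import Cfsg.Agent.Lib.Helper5.Refl
import Cfsg.Agent.Lib.Helper9.AOF4

set_option autoImplicit false
set_option linter.unusedSectionVars false
set_option linter.unusedVariables false

/-! Parity classes of maximal totally singular subspaces: reflections interchange the two
classes (all characteristics); field automorphisms of matrices do not change the parity of a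
similarity of the standard hyperbolic form. -/

namespace Cfsg.Agent.Lib.Helper5.PlusField

open QuadraticMap Module Matrix Cfsg Cfsg.Agent.Lib.Helper5.MaxTS Cfsg.Agent.Lib.Helper5.OAut
  Cfsg.Agent.Lib.Helper5.Refl

section refl
variable {ι : Type} [Fintype ι] [DecidableEq ι] {F : Type*} [Field F]
  (Q : QuadraticForm F (ι → F)) (hQ : (polarBilin Q).Nondegenerate) (m : ℕ)
  (hV : finrank F (ι → F) = 2 * m) (U : Submodule F (ι → F)) (hU : IsMaxTS Q m U)

include hQ hV hU in
/-- a non-singular vector is not orthogonal to a maximal totally singular subspace -/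
theorem exists_not_perp (v : ι → F) (hv : Q v ≠ 0) : ∃ u ∈ U, polar Q v u ≠ 0 := by
  by_contra hcon
  push_neg at hcon
  have h1 : v ∈ orth Q U := by
    rw [mem_orth]
    intro w hw
    rw [polar_comm]
    exact hcon w hw
  rw [orth_eq_of_max Q hQ m hV U hU] at h1
  exact hv (hU.2 v h1)

include hQ hV hU in
/-- a reflection moves a maximal totally singular subspace to an adjacent one -/
theorem finrank_inf_reflection (v : ι → F) (hv : Q v ≠ 0) :
    finrank F ↥(U ⊓ imageSubmodule (reflectionMatrix ⇑Q v) U) + 1 = m := by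
  obtain ⟨u₀, hu₀, hu₀v⟩ := exists_not_perp Q hQ m hV U hU v hv
  -- the functional `polar v` on `U`
  let φ : ↥U →ₗ[F] F := (polarBilin Q v).comp U.subtype
  have hφ : ∀ u : ↥U, φ u = polar Q v (u : ι → F) := fun u => rfl
  have hsurj : Function.Surjective φ := by
    intro a
    refine ⟨(a * (polar Q v u₀)⁻¹) • ⟨u₀, hu₀⟩, ?_⟩
    rw [map_smul, hφ, smul_eq_mul, mul_assoc, inv_mul_cancel₀ hu₀v, mul_one]
  have hrk := LinearMap.finrank_range_add_finrank_ker φ
  rw [LinearMap.range_eq_top.mpr hsurj, finrank_top, finrank_self, hU.1] at hrk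
  -- the intersection is the kernel
  have hker : (U ⊓ imageSubmodule (reflectionMatrix ⇑Q v) U) =
      (LinearMap.ker φ).map U.subtype := by
    ext x
    constructor
    · rintro ⟨hxU, hxr⟩
      obtain ⟨u, hu, hux⟩ := (mem_imageSubmodule _ U x).1 hxr
      rw [reflectionMatrix_mulVec] at hux
      -- if polar v u ≠ 0 then v ∈ U, absurd
      have hpu : polar Q v u = 0 := by
        by_contra hne
        have hvU : v ∈ U := by
          have h1 : ((Q v)⁻¹ * polar Q v u) • v = u - x := by
            rw [← hux]; abel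
          have h2 : ((Q v)⁻¹ * polar Q v u) ≠ 0 := mul_ne_zero (inv_ne_zero hv) hne
          have h3 : v = ((Q v)⁻¹ * polar Q v u)⁻¹ • (u - x) := by
            rw [← h1, smul_smul, inv_mul_cancel₀ h2, one_smul]
          rw [h3]
          exact U.smul_mem _ (U.sub_mem hu hxU)
        exact hv (hU.2 v hvU)
      rw [hpu, mul_zero, zero_smul, sub_zero] at hux
      refine ⟨⟨x, hxU⟩, ?_, rfl⟩
      rw [SetLike.mem_coe, LinearMap.mem_ker, hφ]
      show polar Q v x = 0
      rw [← hux]
      exact hpu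
    · rintro ⟨u, hu, rfl⟩
      rw [SetLike.mem_coe, LinearMap.mem_ker, hφ] at hu
      refine ⟨u.2, ?_⟩
      rw [SetLike.mem_coe, mem_imageSubmodule]
      refine ⟨u, u.2, ?_⟩
      rw [reflectionMatrix_mulVec, hu, mul_zero, zero_smul, sub_zero]
      rfl
  rw [hker]
  have hfr : finrank F ↥((LinearMap.ker φ).map U.subtype) = finrank F ↥(LinearMap.ker φ) :=
    LinearEquiv.finrank_eq
      (Submodule.equivMapOfInjective U.subtype U.injective_subtype (LinearMap.ker φ)).symm
  rw [hfr]
  omega

include hQ hV hU in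
/-- reflections interchange the two classes -/
theorem sdist_reflection (v : ι → F) (hv : Q v ≠ 0) :
    sdist m U ((reflection Q v hv : ↥(isometryGroup F ⇑Q)) : GL ι F) = 1 := by
  unfold sdist
  rw [reflection_coe]
  have := finrank_inf_reflection Q hQ m hV U hU v hv
  omega

end refl

section sigma
open Cfsg.Agent.Lib.Helper9.AOR Cfsg.Agent.Lib.Helper9.ASP
variable {F : Type*} [Field F] [Fintype F] (m : ℕ)

omit [Fintype F] in
theorem vm_mem_stdL (σ : RingAut F) (v : Fin m ⊕ Fin m → F) (hv : v ∈ stdL (F := F) m) :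
    vm σ v ∈ stdL (F := F) m := by
  rw [mem_stdL_iff] at hv ⊢
  intro i
  show σ (v (Sum.inr i)) = 0
  rw [hv i, map_zero]

omit [Fintype F] in
theorem vm_injective (σ : RingAut F) :
    Function.Injective (vm σ : (Fin m ⊕ Fin m → F) → (Fin m ⊕ Fin m → F)) := by
  intro u v h
  have := congrArg (vm σ.symm) h
  rwa [vm_symm, vm_symm] at this

/-- one inequality between the dimensions of the intersections -/
theorem finrank_inf_sGI_le (σ : RingAut F) (k : GL (Fin m ⊕ Fin m) F) :
    finrank F ↥(stdL (F := F) m ⊓ imageSubmodule (k : Matrix _ _ F) (stdL m)) ≤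
      finrank F ↥(stdL (F := F) m ⊓
        imageSubmodule ((sGI σ k : GL (Fin m ⊕ Fin m) F) : Matrix _ _ F) (stdL m)) := by
  classical
  set A := stdL (F := F) m ⊓ imageSubmodule (k : Matrix _ _ F) (stdL m) with hA
  set B := stdL (F := F) m ⊓
    imageSubmodule ((sGI σ k : GL (Fin m ⊕ Fin m) F) : Matrix _ _ F) (stdL m) with hB
  have hmap : ∀ v ∈ A, vm σ v ∈ B := by
    rintro v ⟨hv1, hv2⟩
    refine ⟨vm_mem_stdL m σ v hv1, ?_⟩
    obtain ⟨u, hu, rfl⟩ := (mem_imageSubmodule _ _ v).1 hv2
    rw [SetLike.mem_coe, mem_imageSubmodule]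
    refine ⟨vm σ u, vm_mem_stdL m σ u hu, ?_⟩
    rw [sGI_coe, vm_mulVec]
  have hcard : Nat.card ↥A ≤ Nat.card ↥B := by
    apply Nat.card_le_card_of_injective (fun a : ↥A => (⟨vm σ a.1, hmap a.1 a.2⟩ : ↥B))
    intro a b hab
    apply Subtype.ext
    apply vm_injective m σ
    exact congrArg Subtype.val hab
  rw [Module.natCard_eq_pow_finrank (K := F) (V := ↥A),
    Module.natCard_eq_pow_finrank (K := F) (V := ↥B)] at hcard
  have h1 : 1 < Nat.card F := by
    rw [Nat.card_eq_fintype_card]
    exact Fintype.one_lt_card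
  exact (Nat.pow_le_pow_iff_right h1).mp hcard

theorem finrank_inf_sGI (σ : RingAut F) (k : GL (Fin m ⊕ Fin m) F) :
    finrank F ↥(stdL (F := F) m ⊓
        imageSubmodule ((sGI σ k : GL (Fin m ⊕ Fin m) F) : Matrix _ _ F) (stdL m)) =
      finrank F ↥(stdL (F := F) m ⊓ imageSubmodule (k : Matrix _ _ F) (stdL m)) := by
  apply le_antisymm
  · have h := finrank_inf_sGI_le m σ⁻¹ (sGI σ k)
    have e : sGI σ⁻¹ (sGI σ k) = k := by
      rw [← Cfsg.Agent.Lib.Helper9.AOF.sGI_mul, inv_mul_cancel, Cfsg.Agent.Lib.Helper9.AOF.sGI_one]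
    rwa [e] at h
  · exact finrank_inf_sGI_le m σ k

/-- the field automorphism of matrices does not change the class distance from `stdL` -/
theorem sdist_sGI (σ : RingAut F) (k : GL (Fin m ⊕ Fin m) F) :
    sdist m (stdL (F := F) m) (sGI σ k) = sdist m (stdL (F := F) m) k := by
  unfold sdist
  rw [finrank_inf_sGI]

end sigma

end Cfsg.Agent.Lib.Helper5.PlusField
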