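import Mathlib
import Cfsg.Prelude
import Cfsg.Agent.Lib.Helper5.PlusField.Parity
import Cfsg.Agent.Lib.Helper5.OAut.PscCrit

set_option autoImplicit false
set_option linter.unusedSectionVars false
set_option linter.unusedVariables false

/-! The class character `eps` on the similarity group of the standard hyperbolic form. -/

namespace Cfsg.Agent.Lib.Helper5.PlusField

open QuadraticMap Module Matrix Cfsg Cfsg.Agent.Lib.Helper5.MaxTS Cfsg.Agent.Lib.Helper5.OAut
  Cfsg.Agent.Lib.Helper5.Refl Cfsg.Agent.Lib.Helper5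
open Cfsg.Agent.Lib.Helper9.AOR Cfsg.Agent.Lib.Helper9.ASP Cfsg.Agent.Lib.Helper9.AOF

section forms
variable {F : Type*} [Field F] (m : ℕ)

theorem plusForm_vm (σ : RingAut F) (v : Fin m ⊕ Fin m → F) :
    plusForm m F (vm σ v) = σ (plusForm m F v) := by
  rw [plusForm_apply, plusForm_apply]
  unfold quadFormPlus
  rw [map_sum]
  apply Finset.sum_congr rfl
  intro i _
  rw [map_mul]
  rfl

theorem plusForm_hm {F₀ : Type*} [Field F₀] (j : F₀ →+* F) (v₀ : Fin m ⊕ Fin m → F₀) :
    plusForm m F (hm j v₀) = j (plusForm m F₀ v₀) := by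
  rw [plusForm_apply, plusForm_apply]
  unfold quadFormPlus
  rw [map_sum]
  apply Finset.sum_congr rfl
  intro i _
  rw [map_mul]
  rfl

/-- a rational vector of norm one -/
def v1 (i₀ : Fin m) : Fin m ⊕ Fin m → F :=
  Pi.single (Sum.inl i₀) 1 + Pi.single (Sum.inr i₀) 1

theorem plusForm_v1 (i₀ : Fin m) : plusForm m F (v1 m i₀) = 1 := by
  rw [plusForm_apply]
  unfold quadFormPlus
  rw [Finset.sum_eq_single i₀]
  · simp [v1]
  · intro i _ hi
    simp [v1, hi]
  · intro h
    exact absurd (Finset.mem_univ _) h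

theorem vm_v1 (σ : RingAut F) (i₀ : Fin m) : vm σ (v1 m i₀) = v1 (F := F) m i₀ := by
  ext k
  show σ (v1 m i₀ k) = v1 m i₀ k
  unfold v1
  rcases k with k | k
  · by_cases h : k = i₀
    · subst h; simp
    · simp [h]
  · by_cases h : k = i₀
    · subst h; simp
    · simp [h]

end forms

section eps
variable {F : Type*} [Field F] [Fintype F] (m : ℕ)

/-- the class character: trivial exactly on the similarities fixing the two classes -/
noncomputable def eps :
    ↥(Geo.quadSimilarityGroup (F := F) ⇑(plusForm m F)) →* Multiplicative (ZMod 2) :=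
  sparHom (plusForm m F) (PlusGeom.plus_nondegenerate (F := F) m) m (finrank_plus m) (stdL m)
    (stdL_max m)

theorem eps_eq_one_iff (G : ↥(Geo.quadSimilarityGroup (F := F) ⇑(plusForm m F))) :
    eps m G = 1 ↔ Even (sdist m (stdL (F := F) m) (G : GL (Fin m ⊕ Fin m) F)) :=
  sparHom_eq_one_iff _ _ _ _ _ _ G

theorem eps_eq_one_iff_psc (G : ↥(Geo.quadSimilarityGroup (F := F) ⇑(plusForm m F))) :
    eps m G = 1 ↔ PreservesSingularClasses ⇑(plusForm m F)
      ((G : GL (Fin m ⊕ Fin m) F) : Matrix (Fin m ⊕ Fin m) (Fin m ⊕ Fin m) F) := by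
  rw [eps_eq_one_iff]
  exact (preservesSingularClasses_iff (plusForm m F) (PlusGeom.plus_nondegenerate (F := F) m) m
    (finrank_plus m) (stdL m) (stdL_max m) (G : GL (Fin m ⊕ Fin m) F) G.2).symm

theorem eps_apply (G : ↥(Geo.quadSimilarityGroup (F := F) ⇑(plusForm m F))) :
    eps m G = Multiplicative.ofAdd
      ((sdist m (stdL (F := F) m) (G : GL (Fin m ⊕ Fin m) F) : ℕ) : ZMod 2) := rfl

/-- the character only depends on the underlying matrix -/
theorem eps_congr (G G' : ↥(Geo.quadSimilarityGroup (F := F) ⇑(plusForm m F)))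
    (h : (G : GL (Fin m ⊕ Fin m) F) = G') : eps m G = eps m G' := by
  rw [Subtype.ext h]

theorem eps_sGO (σ : RingAut F) (G : ↥(Geo.quadSimilarityGroup (F := F) ⇑(plusForm m F))) :
    eps m (sGO σ (plusForm_vm m σ) G) = eps m G := by
  rw [eps_apply, eps_apply]
  show Multiplicative.ofAdd ((sdist m (stdL (F := F) m)
    (sGI σ (G : GL (Fin m ⊕ Fin m) F)) : ℕ) : ZMod 2) = _
  rw [sdist_sGI]

/-- reflections have non-trivial class character -/
theorem eps_reflection (v : Fin m ⊕ Fin m → F) (hv : plusForm m F v ≠ 0)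
    (G : ↥(Geo.quadSimilarityGroup (F := F) ⇑(plusForm m F)))
    (hG : ((G : GL (Fin m ⊕ Fin m) F) : Matrix (Fin m ⊕ Fin m) (Fin m ⊕ Fin m) F) =
      reflectionMatrix ⇑(plusForm m F) v) :
    eps m G = Multiplicative.ofAdd (1 : ZMod 2) := by
  rw [eps_apply]
  have h1 := sdist_reflection (plusForm m F) (PlusGeom.plus_nondegenerate (F := F) m) m
    (finrank_plus m) (stdL m) (stdL_max m) v hv
  have h2 : (G : GL (Fin m ⊕ Fin m) F) =
      ((reflection (plusForm m F) v hv : ↥(isometryGroup F ⇑(plusForm m F))) :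
        GL (Fin m ⊕ Fin m) F) := by
    apply Units.ext
    rw [hG, reflection_coe]
  rw [h2, h1]
  simp

theorem ofAdd_one_ne_one : Multiplicative.ofAdd (1 : ZMod 2) ≠ 1 := by
  decide

/-- elements of `Multiplicative (ZMod 2)` are involutions -/
theorem z2_mul_self (a : Multiplicative (ZMod 2)) : a * a = 1 := by
  revert a; decide

theorem z2_cases (a : Multiplicative (ZMod 2)) :
    a = 1 ∨ a = Multiplicative.ofAdd (1 : ZMod 2) := by
  revert a; decide

end eps

end Cfsg.Agent.Lib.Helper5.PlusField
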