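import Mathlib
import Cfsg.Prelude
import Cfsg.Agent.Lib.Helper5.PlusField.Eps
import Cfsg.Agent.Lib.Helper5.QuadSign.GeoInst
import Cfsg.Agent.Lib.Helper5.QuadSign.StdMinus

set_option autoImplicit false
set_option linter.unusedSectionVars false
set_option linter.unusedVariables false

/-! Comparing two semilinear descents of a quadratic form. -/

namespace Cfsg.Agent.Lib.Helper5.PlusField

open QuadraticMap Module Matrix Cfsg Cfsg.Agent.Lib.Helper5.MaxTS Cfsg.Agent.Lib.Helper5.OAut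
  Cfsg.Agent.Lib.Helper5.Refl Cfsg.Agent.Lib.Helper5
open Cfsg.Agent.Lib.Helper9.AOR Cfsg.Agent.Lib.Helper9.ASP Cfsg.Agent.Lib.Helper9.AOF

section lemmaA
variable {ι : Type} [Fintype ι] [DecidableEq ι] {F : Type*} [Field F] [Fintype F]
  (Q : QuadraticForm F (ι → F)) {F₀ : Type*} [Field F₀] (j : F₀ →+* F)

/-- **comparison of descents**: if the descended forms are isometric, the two semilinear maps
are conjugate under a similarity. -/
theorem conj_of_iso (σ : RingAut F) (hι' : ∀ t : F₀, σ (j t) = j t)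
    (g h g₂ h₂ : GL ι F) (hh : g * sGI σ h = h) (hh₂ : g₂ * sGI σ h₂ = h₂)
    (d d₂ : F) (hd : d ≠ 0) (hd₂ : d₂ ≠ 0) (Q₀ Q₀' : QuadraticForm F₀ (ι → F₀))
    (hQ₀ : ∀ v₀, Q ((h : Matrix ι ι F) *ᵥ hm j v₀) = d * j (Q₀ v₀))
    (hQ₀' : ∀ v₀, Q ((h₂ : Matrix ι ι F) *ᵥ hm j v₀) = d₂ * j (Q₀' v₀))
    (k₀ : GL ι F₀) (hk₀ : ∀ w, Q₀ ((k₀ : Matrix ι ι F₀) *ᵥ w) = Q₀' w) :
    ∃ k : ↥(Geo.quadSimilarityGroup (F := F) ⇑Q),
      g * sGI σ (k : GL ι F) = (k : GL ι F) * g₂ := by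
  obtain ⟨k, hk⟩ : ∃ k : GL ι F, k = h * Matrix.GeneralLinearGroup.map j k₀ * h₂⁻¹ := ⟨_, rfl⟩
  have hc : d * d₂⁻¹ ≠ 0 := mul_ne_zero hd (inv_ne_zero hd₂)
  have hrat : ∀ v₀, Q (((k * h₂ : GL ι F) : Matrix ι ι F) *ᵥ hm j v₀) =
      (d * d₂⁻¹) * Q ((h₂ : Matrix ι ι F) *ᵥ hm j v₀) := by
    intro v₀
    have e : k * h₂ = h * Matrix.GeneralLinearGroup.map j k₀ := by
      rw [hk]; group
    rw [e, Units.val_mul, ← Matrix.mulVec_mulVec, glmapI_coe, ← hm_mulVec, hQ₀, hk₀, hQ₀',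
      mul_assoc, ← mul_assoc d₂⁻¹, inv_mul_cancel₀ hd₂, one_mul]
  have hsim : ∀ v, Q ((k : Matrix ι ι F) *ᵥ v) = (d * d₂⁻¹) * Q v := by
    have e := quad_ext_rational j
      (Q.comp (Matrix.toLin' ((k * h₂ : GL ι F) : Matrix ι ι F)))
      ((d * d₂⁻¹) • Q.comp (Matrix.toLin' (h₂ : Matrix ι ι F))) (by
        intro v₀
        rw [QuadraticMap.comp_apply, Matrix.toLin'_apply, hrat]
        rfl)
    intro v
    have e1 := congrArg (fun B : QuadraticForm F (ι → F) =>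
      B (((h₂⁻¹ : GL ι F) : Matrix ι ι F) *ᵥ v)) e
    simp only [QuadraticMap.comp_apply, Matrix.toLin'_apply, QuadraticMap.smul_apply,
      smul_eq_mul] at e1
    rw [Matrix.mulVec_mulVec, Matrix.mulVec_mulVec, ← Units.val_mul, ← Units.val_mul,
      mul_assoc, mul_inv_cancel, mul_one, Units.val_one, Matrix.one_mulVec] at e1
    exact e1
  refine ⟨⟨k, ⟨Units.mk0 (d * d₂⁻¹) hc, hsim⟩⟩, ?_⟩
  show g * sGI σ k = k * g₂
  have e2 : sGI σ h₂ = g₂⁻¹ * h₂ := by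
    calc sGI σ h₂ = g₂⁻¹ * (g₂ * sGI σ h₂) := by group
      _ = g₂⁻¹ * h₂ := by rw [hh₂]
  rw [hk, map_mul, map_mul, map_inv, sGI_glmap σ j hι', e2, ← mul_assoc, ← mul_assoc, hh]
  group

end lemmaA

section signs
open Cfsg.Agent.Lib.Helper5.QuadSign Cfsg.Agent.Lib.Helper5.QuadTwo

theorem nd_of_nondeg {K : Type*} [Field K] {V : Type*} [AddCommGroup V] [Module K V]
    (B : QuadraticForm K V) (h : (polarBilin B).Nondegenerate) : Nd B := by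
  intro v hv
  apply h.1 v
  intro w
  have := hv w
  rw [polar_comm] at this
  simpa using this

variable {F : Type*} [Field F] [Fintype F] (m : ℕ) {F₀ : Type*} [Field F₀] [Fintype F₀]
  (j : F₀ →+* F)

theorem hasSign_plusForm : HasSign ⇑(plusForm m F) m 1 := by
  rw [coe_plusForm, ← qPlus_coe]
  exact hasSign_qPlus m

/-- a linear automorphism as an invertible matrix -/
theorem exists_GL_of_equiv {K : Type*} [Field K] {κ : Type*} [Fintype κ] [DecidableEq κ]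
    (Pe : (κ → K) ≃ₗ[K] (κ → K)) :
    ∃ e₀ : Matrix.GeneralLinearGroup κ K, ∀ x : κ → K, (e₀ : Matrix κ κ K) *ᵥ x = Pe x :=
  exists_GL_of_linearEquiv Pe

variable (σ : RingAut F) (hι' : ∀ t : F₀, σ (j t) = j t)

include hι' in
/-- two descents with forms of the same sign are conjugate -/
theorem conj_of_sign (g h g₂ h₂ : GL (Fin m ⊕ Fin m) F) (hh : g * sGI σ h = h)
    (hh₂ : g₂ * sGI σ h₂ = h₂) (d d₂ : F) (hd : d ≠ 0) (hd₂ : d₂ ≠ 0)
    (Q₀ Q₀' : QuadraticForm F₀ (Fin m ⊕ Fin m → F₀))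
    (hnd : (polarBilin Q₀).Nondegenerate) (hnd' : (polarBilin Q₀').Nondegenerate)
    (hQ₀ : ∀ v₀, plusForm m F ((h : Matrix _ _ F) *ᵥ hm j v₀) = d * j (Q₀ v₀))
    (hQ₀' : ∀ v₀, plusForm m F ((h₂ : Matrix _ _ F) *ᵥ hm j v₀) = d₂ * j (Q₀' v₀))
    (s : ℤ) (hs : HasSign ⇑Q₀ m s) (hs' : HasSign ⇑Q₀' m s) :
    ∃ k : ↥(Geo.quadSimilarityGroup (F := F) ⇑(plusForm m F)),
      g * sGI σ (k : GL (Fin m ⊕ Fin m) F) = (k : GL (Fin m ⊕ Fin m) F) * g₂ := by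
  obtain ⟨φ, hφ⟩ := (geo_all (F := F₀)).iso_of_hasSign Q₀' Q₀ (nd_of_nondeg _ hnd')
    (nd_of_nondeg _ hnd) m (MaxTS.finrank_plus m) (MaxTS.finrank_plus m) s hs' hs
  obtain ⟨k₀, hk₀⟩ := exists_GL_of_equiv φ
  exact conj_of_iso (plusForm m F) j σ hι' g h g₂ h₂ hh hh₂ d d₂ hd hd₂ Q₀ Q₀' hQ₀ hQ₀' k₀
    (fun w => by rw [hk₀, hφ])

include hι' in
/-- a descent with hyperbolic form has trivial class character -/
theorem eps_of_sign_one (G : ↥(Geo.quadSimilarityGroup (F := F) ⇑(plusForm m F)))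
    (h : GL (Fin m ⊕ Fin m) F) (hh : (G : GL (Fin m ⊕ Fin m) F) * sGI σ h = h) (d : F)
    (hd : d ≠ 0) (Q₀ : QuadraticForm F₀ (Fin m ⊕ Fin m → F₀))
    (hnd : (polarBilin Q₀).Nondegenerate)
    (hQ₀ : ∀ v₀, plusForm m F ((h : Matrix _ _ F) *ᵥ hm j v₀) = d * j (Q₀ v₀))
    (hs : HasSign ⇑Q₀ m 1) : eps m G = 1 := by
  obtain ⟨k, hk⟩ := conj_of_sign m j σ hι' (G : GL (Fin m ⊕ Fin m) F) h 1 1 hh
    (by rw [map_one, mul_one]) d 1 hd one_ne_zero Q₀ (plusForm m F₀) hnd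
    (PlusGeom.plus_nondegenerate (F := F₀) m) hQ₀
    (fun v₀ => by rw [Units.val_one, Matrix.one_mulVec, one_mul, plusForm_hm]) 1 hs
    (hasSign_plusForm m)
  rw [mul_one] at hk
  have e : G * sGO σ (plusForm_vm m σ) k = k := Subtype.ext hk
  have e1 := congrArg (eps m) e
  rw [map_mul, eps_sGO] at e1
  exact mul_eq_right.mp e1

end signs

end Cfsg.Agent.Lib.Helper5.PlusField
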