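import Mathlib
import Cfsg.Prelude
import Cfsg.Agent.Lib.Helper5.PlusField.Descent

set_option autoImplicit false
set_option linter.unusedSectionVars false
set_option linter.unusedVariables false

/-! Rational reflections and the descent for quadratic field automorphisms. -/

namespace Cfsg.Agent.Lib.Helper5.PlusField

open QuadraticMap Module Matrix Cfsg Cfsg.Agent.Lib.Helper5.MaxTS Cfsg.Agent.Lib.Helper5.OAut
  Cfsg.Agent.Lib.Helper5.Refl Cfsg.Agent.Lib.Helper5
open Cfsg.Agent.Lib.Helper9.AOR Cfsg.Agent.Lib.Helper9.ASP Cfsg.Agent.Lib.Helper9.AOF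
open Cfsg.Agent.Lib.Helper5.QuadSign Cfsg.Agent.Lib.Helper5.QuadTwo

section rat
variable {ι : Type} [Fintype ι] [DecidableEq ι] {F : Type*} [Field F]
  (Q : QuadraticForm F (ι → F))

theorem vm_single (σ : RingAut F) (k : ι) : vm σ (Pi.single k (1 : F)) = Pi.single k 1 := by
  ext i
  show σ ((Pi.single k (1 : F) : ι → F) i) = _
  by_cases h : i = k
  · subst h
    rw [Pi.single_eq_same, map_one]
  · rw [Pi.single_eq_of_ne h, map_zero]

theorem polar_vm (σ : RingAut F) (hσQ : ∀ v, Q (vm σ v) = σ (Q v)) (a b : ι → F) :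
    polar Q (vm σ a) (vm σ b) = σ (polar Q a b) := by
  unfold polar
  rw [← vm_add, hσQ, hσQ, hσQ, map_sub, map_sub]

/-- the reflection in a rational vector is a rational matrix -/
theorem reflectionMatrix_map_of_fixed (σ : RingAut F) (hσQ : ∀ v, Q (vm σ v) = σ (Q v))
    (v : ι → F) (hv : vm σ v = v) :
    (reflectionMatrix ⇑Q v).map σ = reflectionMatrix ⇑Q v := by
  ext i k
  have hQv : σ (Q v) = Q v := by rw [← hσQ, hv]
  have hp : σ (polar Q v (Pi.single k 1)) = polar Q v (Pi.single k 1) := by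
    rw [← polar_vm Q σ hσQ, hv, vm_single]
  have hvi : σ (v i) = v i := congrFun hv i
  have h1 : σ ((1 : Matrix ι ι F) i k) = (1 : Matrix ι ι F) i k := by
    by_cases h : i = k
    · subst h
      rw [Matrix.one_apply_eq, map_one]
    · rw [Matrix.one_apply_ne h, map_zero]
  unfold reflectionMatrix polarVec
  rw [Matrix.map_apply]
  simp only [Matrix.sub_apply, Matrix.smul_apply, Matrix.vecMulVec_apply, smul_eq_mul, map_sub,
    map_mul, map_inv₀]
  rw [h1, hQv, hp, hvi]

end rat

section reflsim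
variable {F : Type*} [Field F] [Fintype F] (m : ℕ)

/-- a reflection as an element of the similarity group -/
noncomputable def reflSim (v : Fin m ⊕ Fin m → F) (hv : plusForm m F v ≠ 0) :
    ↥(Geo.quadSimilarityGroup (F := F) ⇑(plusForm m F)) :=
  ⟨((reflection (plusForm m F) v hv : ↥(isometryGroup F ⇑(plusForm m F))) :
      GL (Fin m ⊕ Fin m) F), ⟨1, fun x => by
        rw [reflection_coe, reflection_preserves (plusForm m F) v hv, Units.val_one, one_mul]⟩⟩

theorem reflSim_coe (v : Fin m ⊕ Fin m → F) (hv : plusForm m F v ≠ 0) :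
    ((reflSim m v hv : GL (Fin m ⊕ Fin m) F) : Matrix (Fin m ⊕ Fin m) (Fin m ⊕ Fin m) F) =
      reflectionMatrix ⇑(plusForm m F) v := reflection_coe (plusForm m F) v hv

theorem eps_reflSim (v : Fin m ⊕ Fin m → F) (hv : plusForm m F v ≠ 0) :
    eps m (reflSim m v hv) = Multiplicative.ofAdd (1 : ZMod 2) :=
  eps_reflection m v hv _ (reflSim_coe m v hv)

theorem reflSim_mul_self (v : Fin m ⊕ Fin m → F) (hv : plusForm m F v ≠ 0) :
    (reflSim m v hv : GL (Fin m ⊕ Fin m) F) * (reflSim m v hv : GL (Fin m ⊕ Fin m) F) = 1 := by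
  apply Units.ext
  rw [Units.val_mul, reflSim_coe, reflection_mul_self (plusForm m F) v hv, Units.val_one]

theorem sGI_reflSim (σ : RingAut F) (v : Fin m ⊕ Fin m → F) (hv : plusForm m F v ≠ 0)
    (hσv : vm σ v = v) :
    sGI σ (reflSim m v hv : GL (Fin m ⊕ Fin m) F) = (reflSim m v hv : GL (Fin m ⊕ Fin m) F) := by
  apply Units.ext
  rw [sGI_coe, reflSim_coe,
    reflectionMatrix_map_of_fixed (plusForm m F) σ (plusForm_vm m σ) v hσv]

theorem NkI_two_reflSim (σ : RingAut F) (v : Fin m ⊕ Fin m → F) (hv : plusForm m F v ≠ 0)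
    (hσv : vm σ v = v) : NkI σ (reflSim m v hv : GL (Fin m ⊕ Fin m) F) 2 = 1 := by
  rw [NkI_succ, NkI_succ, NkI_zero, map_one, mul_one, sGI_reflSim m σ v hv hσv,
    reflSim_mul_self]

end reflsim

end Cfsg.Agent.Lib.Helper5.PlusField
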