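import Mathlib
import Cfsg.Prelude
import Cfsg.Agent.Lib.Helper5.PlusField.ReflRat

set_option autoImplicit false
set_option linter.unusedSectionVars false
set_option linter.unusedVariables false

/-! A form over the fixed field of an automorphism of odd order which becomes hyperbolic over
the big field is hyperbolic. -/

namespace Cfsg.Agent.Lib.Helper5.PlusField

open QuadraticMap Module Matrix Cfsg Cfsg.Agent.Lib.Helper5.MaxTS Cfsg.Agent.Lib.Helper5.OAut
  Cfsg.Agent.Lib.Helper5.Refl Cfsg.Agent.Lib.Helper5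
open Cfsg.Agent.Lib.Helper9.AOR Cfsg.Agent.Lib.Helper9.ASP Cfsg.Agent.Lib.Helper9.AOF
open Cfsg.Agent.Lib.Helper5.QuadSign Cfsg.Agent.Lib.Helper5.QuadTwo

section ell
variable {K : Type*} [Field K] (m : ℕ)
  (e : Fin m ⊕ Fin m ≃ (Fin (m - 1) ⊕ Fin (m - 1)) ⊕ Fin 2)

/-- the elliptic form in the coordinates of the hyperbolic one -/
noncomputable def ellForm (ζ : K) : QuadraticForm K (Fin m ⊕ Fin m → K) :=
  (qMinus (m - 1) 1 ζ).comp (LinearMap.funLeft K K e.symm)

theorem ellForm_apply (ζ : K) (v : Fin m ⊕ Fin m → K) :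
    ellForm m e ζ v = qMinus (m - 1) 1 ζ (v ∘ e.symm) := rfl

theorem ellForm_hm {K₀ : Type*} [Field K₀] (j : K₀ →+* K) (ζ : K₀)
    (v₀ : Fin m ⊕ Fin m → K₀) : ellForm m e (j ζ) (hm j v₀) = j (ellForm m e ζ v₀) := by
  rw [ellForm_apply, ellForm_apply, qMinus_apply, qMinus_apply, qPlus_apply, qPlus_apply,
    qBin_apply, qBin_apply]
  simp only [Function.comp_apply, hm, map_add, map_mul, map_pow, map_sum, map_one]

/-- the reindexing bijection -/
def reidx : (Fin m ⊕ Fin m → K) ≃ ((Fin (m - 1) ⊕ Fin (m - 1)) ⊕ Fin 2 → K) where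
  toFun v := v ∘ e.symm
  invFun w := w ∘ e
  left_inv v := by ext i; simp
  right_inv w := by ext i; simp

theorem hasSign_ellForm [Fintype K] (hm : 1 ≤ m) (ζ : K) (hζ : ∀ t : K, t ^ 2 + t + ζ ≠ 0) :
    HasSign ⇑(ellForm m e ζ) m (-1) := by
  have hac : ∀ z₁ z₂ : K, z₁ ^ 2 + 1 * z₁ * z₂ + ζ * z₂ ^ 2 = 0 → z₁ = 0 ∧ z₂ = 0 := by
    intro z₁ z₂ h
    by_cases h2 : z₂ = 0
    · subst h2
      simp only [mul_zero, add_zero, ne_eq, OfNat.ofNat_ne_zero, not_false_eq_true, zero_pow,
        pow_eq_zero_iff] at h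
      exact ⟨h, rfl⟩
    · exfalso
      apply hζ (z₁ / z₂)
      field_simp
      linear_combination h
  have h1 := hasSign_qMinus (F := K) (m - 1) hac
  have h2 : m - 1 + 1 = m := by omega
  rw [h2] at h1
  exact (hasSign_congr (reidx m e) ⇑(ellForm m e ζ) ⇑(qMinus (m - 1) 1 ζ)
    (fun x => rfl) m (-1)).2 h1

theorem nd_ellForm [Finite K] (ζ : K) (hζ : ∀ t : K, t ^ 2 + t + ζ ≠ 0) :
    Nd (ellForm m e ζ) := by
  have hac : ∀ z₁ z₂ : K, z₁ ^ 2 + 1 * z₁ * z₂ + ζ * z₂ ^ 2 = 0 → z₁ = 0 ∧ z₂ = 0 := by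
    intro z₁ z₂ h
    by_cases h2 : z₂ = 0
    · subst h2
      simp only [mul_zero, add_zero, ne_eq, OfNat.ofNat_ne_zero, not_false_eq_true, zero_pow,
        pow_eq_zero_iff] at h
      exact ⟨h, rfl⟩
    · exfalso
      apply hζ (z₁ / z₂)
      field_simp
      linear_combination h
  have h1 := nd_qMinus (F := K) (m - 1) hac
  intro v hv
  have h2 : v ∘ e.symm = 0 := by
    apply h1
    intro w
    have h3 := hv (w ∘ e)
    have h4 : polar (ellForm m e ζ) (w ∘ e) v =
        polar (qMinus (m - 1) 1 ζ) ((w ∘ e) ∘ e.symm) (v ∘ e.symm) := rfl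
    rw [h4] at h3
    have h5 : (w ∘ e) ∘ e.symm = w := by ext i; simp
    rwa [h5] at h3
  ext i
  have := congrFun h2 (e i)
  simpa using this

end ell

section noroot
variable (K : Type*) [Field K] [Finite K]

theorem exists_no_root : ∃ ζ : K, ∀ t : K, t ^ 2 + t + ζ ≠ 0 := by
  have hni : ¬ Function.Injective (fun t : K => t ^ 2 + t) := by
    intro h
    have h1 : (fun t : K => t ^ 2 + t) 0 = (fun t : K => t ^ 2 + t) (-1) := by
      simp
    have := h h1
    have h2 : (1 : K) = 0 := by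
      have h3 := congrArg (fun x : K => -x) this
      simpa using h3.symm
    exact one_ne_zero h2
  have hns : ¬ Function.Surjective (fun t : K => t ^ 2 + t) :=
    fun h => hni (Finite.injective_iff_surjective.mpr h)
  rw [Function.Surjective] at hns
  push_neg at hns
  obtain ⟨y, hy⟩ := hns
  refine ⟨-y, fun t h => hy t ?_⟩
  show t ^ 2 + t = y
  linear_combination h

end noroot

section persist
variable {F : Type*} [Field F] {F₀ : Type*} [Field F₀] (j : F₀ →+* F)

/-- a quadratic polynomial over the fixed field of an automorphism of odd order without roots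
there has no roots in the big field -/
theorem no_root_persist (σ : RingAut F) (r : ℕ) (hσ : σ ^ r = 1) (hodd : Odd r)
    (hι : ∀ a : F, σ a = a → a ∈ Set.range j) (hι' : ∀ t : F₀, σ (j t) = j t) (ζ : F₀)
    (hζ : ∀ t : F₀, t ^ 2 + t + ζ ≠ 0) : ∀ t : F, t ^ 2 + t + j ζ ≠ 0 := by
  intro ω hω
  have hfix : σ ω = ω → False := by
    intro h
    obtain ⟨t₀, rfl⟩ := hι ω h
    apply hζ t₀
    apply j.injective
    rw [map_add, map_add, map_pow, map_zero]
    exact hω
  have hσω : σ ω ^ 2 + σ ω + j ζ = 0 := by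
    have := congrArg σ hω
    rwa [map_add, map_add, map_pow, hι', map_zero] at this
  have hprod : (σ ω - ω) * (σ ω + ω + 1) = 0 := by
    linear_combination hσω - hω
  rcases mul_eq_zero.mp hprod with h | h
  · exact hfix (sub_eq_zero.mp h)
  · have h1 : σ ω = -1 - ω := by linear_combination h
    have h2 : σ (σ ω) = ω := by
      rw [h1, map_sub, map_neg, map_one, h1]
      ring
    have h3 : ∀ k : ℕ, (σ ^ (2 * k)) ω = ω := by
      intro k
      induction k with
      | zero => simp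
      | succ k ih =>
        have e : 2 * (k + 1) = 2 * k + 2 := by ring
        rw [e, pow_add, pow_two]
        show (σ ^ (2 * k)) (σ (σ ω)) = ω
        rw [h2, ih]
    obtain ⟨k, hk⟩ := hodd
    have h4 : (σ ^ r) ω = σ ω := by
      rw [hk, pow_succ]
      show (σ ^ (2 * k)) (σ ω) = σ ω
      have h5 : (σ ^ (2 * k)) (σ ω) = σ ((σ ^ (2 * k)) ω) := by
        rw [← RingAut.mul_apply, ← RingAut.mul_apply, ← pow_succ, ← pow_succ']
      rw [h5, h3]
    rw [hσ] at h4
    exact hfix h4.symm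

end persist

section main
variable {F : Type*} [Field F] [Fintype F] (m : ℕ) {F₀ : Type*} [Field F₀] [Fintype F₀]
  (j : F₀ →+* F)

theorem zeros_of_iff {V : Type*} {K : Type*} [Field K] (Q Q' : V → K)
    (h : ∀ x, Q x = 0 ↔ Q' x = 0) : zeros Q = zeros Q' := by
  unfold zeros
  exact Nat.card_congr (Equiv.subtypeEquivRight h)

/-- multiplication by an invertible matrix as a bijection -/
def mulVecEquiv {κ : Type*} [Fintype κ] [DecidableEq κ] {K : Type*} [Field K] (k : GL κ K) :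
    (κ → K) ≃ (κ → K) where
  toFun v := (k : Matrix κ κ K) *ᵥ v
  invFun v := ((k⁻¹ : GL κ K) : Matrix κ κ K) *ᵥ v
  left_inv v := by
    show ((k⁻¹ : GL κ K) : Matrix κ κ K) *ᵥ ((k : Matrix κ κ K) *ᵥ v) = v
    rw [Matrix.mulVec_mulVec, ← Units.val_mul, inv_mul_cancel, Units.val_one, Matrix.one_mulVec]
  right_inv v := by
    show (k : Matrix κ κ K) *ᵥ (((k⁻¹ : GL κ K) : Matrix κ κ K) *ᵥ v) = v
    rw [Matrix.mulVec_mulVec, ← Units.val_mul, mul_inv_cancel, Units.val_one, Matrix.one_mulVec]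

/-- **odd order**: the descended form is hyperbolic -/
theorem sign_one_of_odd (hm1 : 1 ≤ m) (σ : RingAut F) (r : ℕ) (hσ : σ ^ r = 1) (hodd : Odd r)
    (hι : ∀ a : F, σ a = a → a ∈ Set.range j) (hι' : ∀ t : F₀, σ (j t) = j t)
    (h : GL (Fin m ⊕ Fin m) F) (d : F) (hd : d ≠ 0)
    (Q₀ : QuadraticForm F₀ (Fin m ⊕ Fin m → F₀)) (hnd : (polarBilin Q₀).Nondegenerate)
    (hQ₀ : ∀ v₀, plusForm m F ((h : Matrix _ _ F) *ᵥ hm j v₀) = d * j (Q₀ v₀)) :
    HasSign ⇑Q₀ m 1 := by
  rcases (geo_all (F := F₀)).hasSign Q₀ (nd_of_nondeg _ hnd) m (MaxTS.finrank_plus m) with hs | hs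
  · exact hs
  · exfalso
    obtain ⟨ζ, hζ⟩ := exists_no_root F₀
    have e : Fin m ⊕ Fin m ≃ (Fin (m - 1) ⊕ Fin (m - 1)) ⊕ Fin 2 :=
      Fintype.equivOfCardEq (by
        simp only [Fintype.card_sum, Fintype.card_fin]
        omega)
    have hsE := hasSign_ellForm m e hm1 ζ hζ
    obtain ⟨φ, hφ⟩ := (geo_all (F := F₀)).iso_of_hasSign (ellForm m e ζ) Q₀
      (nd_ellForm m e ζ hζ) (nd_of_nondeg _ hnd) m (MaxTS.finrank_plus m)
      (MaxTS.finrank_plus m) (-1) hsE hs
    obtain ⟨k₀, hk₀⟩ := exists_GL_of_equiv φ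
    obtain ⟨k, hk⟩ : ∃ k : GL (Fin m ⊕ Fin m) F, k = h * Matrix.GeneralLinearGroup.map j k₀ :=
      ⟨_, rfl⟩
    have hrat : ∀ v₀, plusForm m F ((k : Matrix _ _ F) *ᵥ hm j v₀) =
        d * ellForm m e (j ζ) (hm j v₀) := by
      intro v₀
      rw [hk, Units.val_mul, ← Matrix.mulVec_mulVec, glmapI_coe, ← hm_mulVec, hQ₀, hk₀, hφ,
        ellForm_hm]
    have hall : ∀ v, plusForm m F ((k : Matrix _ _ F) *ᵥ v) = d * ellForm m e (j ζ) v := by
      have e1 := quad_ext_rational j
        ((plusForm m F).comp (Matrix.toLin' (k : Matrix _ _ F))) (d • ellForm m e (j ζ)) (by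
          intro v₀
          rw [QuadraticMap.comp_apply, Matrix.toLin'_apply, hrat]
          rfl)
      intro v
      have e2 := congrArg (fun B : QuadraticForm F (Fin m ⊕ Fin m → F) => B v) e1
      simp only [QuadraticMap.comp_apply, Matrix.toLin'_apply, QuadraticMap.smul_apply,
        smul_eq_mul] at e2
      exact e2
    have hζF := no_root_persist j σ r hσ hodd hι hι' ζ hζ
    have hsF := hasSign_ellForm m e hm1 (j ζ) hζF
    have hz : zeros ⇑(plusForm m F) = zeros ⇑(ellForm m e (j ζ)) := by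
      have h1 : zeros (fun v => plusForm m F ((k : Matrix _ _ F) *ᵥ v)) =
          zeros ⇑(plusForm m F) :=
        zeros_congr (mulVecEquiv k) _ _ (fun x => rfl)
      rw [← h1]
      apply zeros_of_iff
      intro x
      rw [hall, mul_eq_zero]
      constructor
      · rintro (h | h)
        · exact absurd h hd
        · exact h
      · exact fun h => Or.inr h
    have hsP := hasSign_plusForm (F := F) m
    have hsP' : HasSign ⇑(ellForm m e (j ζ)) m 1 := by
      unfold HasSign at hsP ⊢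
      rw [← hz]
      exact hsP
    have := HasSign.unique hsP' hsF
    omega

end main

end Cfsg.Agent.Lib.Helper5.PlusField
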