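import Mathlib
import Cfsg.Prelude
import Cfsg.Agent.Lib.Helper5.PlusField.OddSign

set_option autoImplicit false
set_option linter.unusedSectionVars false
set_option linter.unusedVariables false

/-! Conjugacy of semisimilarities of the hyperbolic form with the same class character. -/

namespace Cfsg.Agent.Lib.Helper5.PlusField

open QuadraticMap Module Matrix Cfsg Cfsg.Agent.Lib.Helper5.MaxTS Cfsg.Agent.Lib.Helper5.OAut
  Cfsg.Agent.Lib.Helper5.Refl Cfsg.Agent.Lib.Helper5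
open Cfsg.Agent.Lib.Helper9.AOR Cfsg.Agent.Lib.Helper9.ASP Cfsg.Agent.Lib.Helper9.AOF
open Cfsg.Agent.Lib.Helper5.QuadSign Cfsg.Agent.Lib.Helper5.QuadTwo

section cc
variable {F : Type*} [Field F] [Fintype F] (m : ℕ) (hm1 : 1 ≤ m) {F₀ : Type*} [Field F₀]
  [Fintype F₀] (j : F₀ →+* F) (σ : RingAut F) (r : ℕ) (hr : r.Prime) (hord : orderOf σ = r)
  (hι : ∀ a : F, σ a = a → a ∈ Set.range j) (hι' : ∀ t : F₀, σ (j t) = j t)

include hm1 hr hord hι hι' in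
/-- descent data of a similarity with trivial norm -/
theorem exists_descent_data (G : ↥(Geo.quadSimilarityGroup (F := F) ⇑(plusForm m F)))
    (hN : NkI σ (G : GL (Fin m ⊕ Fin m) F) r = 1) :
    ∃ (h : GL (Fin m ⊕ Fin m) F) (d : F) (Q₀ : QuadraticForm F₀ (Fin m ⊕ Fin m → F₀)),
      d ≠ 0 ∧ (G : GL (Fin m ⊕ Fin m) F) * sGI σ h = h ∧ (polarBilin Q₀).Nondegenerate ∧
      ∀ v₀, plusForm m F ((h : Matrix _ _ F) *ᵥ hm j v₀) = d * j (Q₀ v₀) := by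
  haveI : Nonempty (Fin m ⊕ Fin m) := ⟨Sum.inl ⟨0, by omega⟩⟩
  have hσ : σ ^ r = 1 := hord ▸ pow_orderOf_eq_one σ
  have hinj : ∀ i j, i < r → j < r → σ ^ i = σ ^ j → i = j := by
    intro i j hi hj e
    exact pow_injOn_Iio_orderOf (by rw [hord]; exact hi) (by rw [hord]; exact hj) e
  obtain ⟨c, hc⟩ := G.2
  have hg : ∀ v, plusForm m F (sm (G : GL (Fin m ⊕ Fin m) F) σ v) =
      (c : F) * σ (plusForm m F v) := by
    intro v
    unfold sm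
    rw [hc, plusForm_vm]
  exact descent_form (plusForm m F) j σ r hr.pos hinj hσ hι hι'
    (PlusGeom.plus_nondegenerate (F := F) m) (G : GL (Fin m ⊕ Fin m) F) (c : F) c.ne_zero hg hN

include hm1 hr hord hι hι' in
/-- for an involutory field automorphism, an elliptic descent has non-trivial character -/
theorem eps_of_sign_neg (hr2 : r = 2) (G : ↥(Geo.quadSimilarityGroup (F := F) ⇑(plusForm m F)))
    (h : GL (Fin m ⊕ Fin m) F) (hh : (G : GL (Fin m ⊕ Fin m) F) * sGI σ h = h) (d : F)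
    (hd : d ≠ 0) (Q₀ : QuadraticForm F₀ (Fin m ⊕ Fin m → F₀))
    (hnd : (polarBilin Q₀).Nondegenerate)
    (hQ₀ : ∀ v₀, plusForm m F ((h : Matrix _ _ F) *ᵥ hm j v₀) = d * j (Q₀ v₀))
    (hs : HasSign ⇑Q₀ m (-1)) : eps m G = Multiplicative.ofAdd (1 : ZMod 2) := by
  obtain ⟨i₀⟩ : Nonempty (Fin m) := ⟨⟨0, by omega⟩⟩
  have hv1 : plusForm m F (v1 m i₀) ≠ 0 := by
    rw [plusForm_v1]; exact one_ne_zero
  have hN1 : NkI σ (reflSim m (v1 m i₀) hv1 : GL (Fin m ⊕ Fin m) F) r = 1 := by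
    rw [hr2]
    exact NkI_two_reflSim m σ _ hv1 (vm_v1 m σ i₀)
  obtain ⟨h₁, d₁, Q₁, hd₁, hh₁, hnd₁, hQ₁⟩ :=
    exists_descent_data m hm1 j σ r hr hord hι hι' (reflSim m (v1 m i₀) hv1) hN1
  have hs₁ : HasSign ⇑Q₁ m (-1) := by
    rcases (geo_all (F := F₀)).hasSign Q₁ (nd_of_nondeg _ hnd₁) m (MaxTS.finrank_plus m)
      with h1 | h1
    · exfalso
      have := eps_of_sign_one m j σ hι' (reflSim m (v1 m i₀) hv1) h₁ hh₁ d₁ hd₁ Q₁ hnd₁ hQ₁ h1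
      rw [eps_reflSim] at this
      exact ofAdd_one_ne_one this
    · exact h1
  obtain ⟨k, hk⟩ := conj_of_sign m j σ hι' (G : GL (Fin m ⊕ Fin m) F) h
    (reflSim m (v1 m i₀) hv1 : GL (Fin m ⊕ Fin m) F) h₁ hh hh₁ d d₁ hd hd₁ Q₀ Q₁ hnd hnd₁ hQ₀
    hQ₁ (-1) hs hs₁
  have e : G * sGO σ (plusForm_vm m σ) k = k * reflSim m (v1 m i₀) hv1 := Subtype.ext hk
  have e1 := congrArg (eps m) e
  rw [map_mul, map_mul, eps_sGO, mul_comm] at e1
  rw [← eps_reflSim m (v1 m i₀) hv1]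
  exact mul_left_cancel e1

include hm1 hr hord hι hι' in
/-- **conjugacy**: two similarities with trivial norm and the same class character are
`σ`-conjugate under a similarity -/
theorem exists_conj_of_eps (G G₂ : ↥(Geo.quadSimilarityGroup (F := F) ⇑(plusForm m F)))
    (hN : NkI σ (G : GL (Fin m ⊕ Fin m) F) r = 1)
    (hN₂ : NkI σ (G₂ : GL (Fin m ⊕ Fin m) F) r = 1) (heps : eps m G = eps m G₂) :
    ∃ k : ↥(Geo.quadSimilarityGroup (F := F) ⇑(plusForm m F)),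
      (G : GL (Fin m ⊕ Fin m) F) * sGI σ (k : GL (Fin m ⊕ Fin m) F) =
        (k : GL (Fin m ⊕ Fin m) F) * G₂ := by
  obtain ⟨h, d, Q₀, hd, hh, hnd, hQ₀⟩ := exists_descent_data m hm1 j σ r hr hord hι hι' G hN
  obtain ⟨h₂, d₂, Q₂, hd₂, hh₂, hnd₂, hQ₂⟩ :=
    exists_descent_data m hm1 j σ r hr hord hι hι' G₂ hN₂
  have hσ : σ ^ r = 1 := hord ▸ pow_orderOf_eq_one σ
  by_cases hr2 : r = 2
  · rcases (geo_all (F := F₀)).hasSign Q₀ (nd_of_nondeg _ hnd) m (MaxTS.finrank_plus m)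
      with hs | hs <;>
    rcases (geo_all (F := F₀)).hasSign Q₂ (nd_of_nondeg _ hnd₂) m (MaxTS.finrank_plus m)
      with hs₂ | hs₂
    · exact conj_of_sign m j σ hι' _ h _ h₂ hh hh₂ d d₂ hd hd₂ Q₀ Q₂ hnd hnd₂ hQ₀ hQ₂ 1 hs hs₂
    · exfalso
      have e1 := eps_of_sign_one m j σ hι' G h hh d hd Q₀ hnd hQ₀ hs
      have e2 := eps_of_sign_neg m hm1 j σ r hr hord hι hι' hr2 G₂ h₂ hh₂ d₂ hd₂ Q₂ hnd₂ hQ₂ hs₂
      rw [e1, e2] at heps
      exact ofAdd_one_ne_one heps.symm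
    · exfalso
      have e1 := eps_of_sign_neg m hm1 j σ r hr hord hι hι' hr2 G h hh d hd Q₀ hnd hQ₀ hs
      have e2 := eps_of_sign_one m j σ hι' G₂ h₂ hh₂ d₂ hd₂ Q₂ hnd₂ hQ₂ hs₂
      rw [e1, e2] at heps
      exact ofAdd_one_ne_one heps
    · exact conj_of_sign m j σ hι' _ h _ h₂ hh hh₂ d d₂ hd hd₂ Q₀ Q₂ hnd hnd₂ hQ₀ hQ₂ (-1) hs
        hs₂
  · have hodd : Odd r := hr.odd_of_ne_two hr2
    have hs := sign_one_of_odd m j hm1 σ r hσ hodd hι hι' h d hd Q₀ hnd hQ₀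
    have hs₂ := sign_one_of_odd m j hm1 σ r hσ hodd hι hι' h₂ d₂ hd₂ Q₂ hnd₂ hQ₂
    exact conj_of_sign m j σ hι' _ h _ h₂ hh hh₂ d d₂ hd hd₂ Q₀ Q₂ hnd hnd₂ hQ₀ hQ₂ 1 hs hs₂

end cc

end Cfsg.Agent.Lib.Helper5.PlusField
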