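import Mathlib
import Cfsg.Prelude
import Cfsg.Agent.Lib.Helper5.PlusField.Conj

set_option autoImplicit false
set_option linter.unusedSectionVars false
set_option linter.unusedVariables false

/-! The inner-diagonal group of `PΩ⁺` as the image of the kernel of the class character, and
its normality in the automorphism group. -/

namespace Cfsg.Agent.Lib.Helper5.PlusField

open QuadraticMap Module Matrix Cfsg Cfsg.Agent.Lib.Helper5.MaxTS Cfsg.Agent.Lib.Helper5.OAut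
  Cfsg.Agent.Lib.Helper5.Refl Cfsg.Agent.Lib.Helper5
open Cfsg.Agent.Lib.Helper9.AOR Cfsg.Agent.Lib.Helper9.ASP Cfsg.Agent.Lib.Helper9.AOF

section D
variable {F : Type*} [Field F] [Fintype F] (m : ℕ)

/-- the inner-diagonal group: the image of the class-preserving similarities -/
noncomputable def dPlus : Subgroup (MulAut (POmega F ⇑(plusForm m F))) :=
  (eps (F := F) m).ker.map (conjGO (plusForm m F))

theorem mem_dPlus_iff (β : MulAut (POmega F ⇑(plusForm m F))) :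
    β ∈ dPlus m ↔ ∃ G : ↥(Geo.quadSimilarityGroup (F := F) ⇑(plusForm m F)),
      eps m G = 1 ∧ conjGO (plusForm m F) G = β := by
  unfold dPlus
  rw [Subgroup.mem_map]
  constructor
  · rintro ⟨G, hG, rfl⟩
    exact ⟨G, (MonoidHom.mem_ker).1 hG, rfl⟩
  · rintro ⟨G, hG, rfl⟩
    exact ⟨G, (MonoidHom.mem_ker).2 hG, rfl⟩

theorem inndiagGen_eq_dPlus : inndiagGen ⇑(plusForm m F) = dPlus m := by
  unfold inndiagGen autSubgroupOf
  have hset : {β : MulAut (POmega F ⇑(plusForm m F)) | ∃ g : GL (Fin m ⊕ Fin m) F,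
      g ∈ Geo.quadSimilarityGroup (F := F) ⇑(plusForm m F) ∧
      PreservesSingularClasses ⇑(plusForm m F) (g : Matrix (Fin m ⊕ Fin m) (Fin m ⊕ Fin m) F) ∧
      IsInducedBySemilinearPOmega ⇑(plusForm m F) g (RingEquiv.refl F) β} =
      ((dPlus m : Subgroup (MulAut (POmega F ⇑(plusForm m F)))) :
        Set (MulAut (POmega F ⇑(plusForm m F)))) := by
    ext β
    rw [SetLike.mem_coe, mem_dPlus_iff]
    constructor
    · rintro ⟨g, hg, hpsc, hind⟩
      refine ⟨⟨g, hg⟩, (eps_eq_one_iff_psc m ⟨g, hg⟩).2 hpsc, ?_⟩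
      ext x
      induction x using QuotientGroup.induction_on with
      | H s =>
        rw [conjGO_mk]
        symm
        apply hind
        rw [map_refl]
        rfl
    · rintro ⟨G, hG, rfl⟩
      exact ⟨(G : GL (Fin m ⊕ Fin m) F), G.2, (eps_eq_one_iff_psc m G).1 hG, conjGO_induced G⟩
  rw [hset, Subgroup.closure_eq]

/-- the linear part of a semisimilarity of the hyperbolic form is a similarity -/
theorem sim_of_semi (g₁ : GL (Fin m ⊕ Fin m) F) (τ : F ≃+* F) (c₁ : F) (hc₁ : c₁ ≠ 0)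
    (hg₁ : ∀ v, plusForm m F (sm g₁ τ v) = c₁ * τ (plusForm m F v)) :
    g₁ ∈ Geo.quadSimilarityGroup (F := F) ⇑(plusForm m F) := by
  refine ⟨Units.mk0 c₁ hc₁, fun w => ?_⟩
  have h1 := hg₁ (vm τ.symm w)
  unfold sm at h1
  rw [vm_symm'] at h1
  rw [h1, ← plusForm_vm m (τ : RingAut F), vm_symm']
  rfl

/-- normality of the inner-diagonal group -/
theorem dPlus_normal (hm1 : 1 ≤ m) (hγ : gammaPOmega F ⇑(plusForm m F) = ⊤) :
    (dPlus (F := F) m).Normal := by
  obtain ⟨i₀⟩ : Nonempty (Fin m) := ⟨⟨0, by omega⟩⟩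
  constructor
  intro δ hδ β
  rw [mem_dPlus_iff] at hδ ⊢
  obtain ⟨G, hG, rfl⟩ := hδ
  obtain ⟨τ, g₁, c₁, hc₁, hg₁, rfl⟩ := SR_total hγ β
  have e := conjSim_semiAut g₁ τ c₁ hc₁ hg₁ (plusForm_v1 (F := F) m i₀) G
  refine ⟨conjSim g₁ τ c₁ hc₁ hg₁ (plusForm_v1 (F := F) m i₀) G, ?_, ?_⟩
  · have hg₁s := sim_of_semi m g₁ τ c₁ hc₁ hg₁
    have e1 : (conjSim g₁ τ c₁ hc₁ hg₁ (plusForm_v1 (F := F) m i₀) G) =
        (⟨g₁, hg₁s⟩ : ↥(Geo.quadSimilarityGroup (F := F) ⇑(plusForm m F))) *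
          sGO (τ : RingAut F) (plusForm_vm m τ) G *
          (⟨g₁, hg₁s⟩ : ↥(Geo.quadSimilarityGroup (F := F) ⇑(plusForm m F)))⁻¹ := by
      apply Subtype.ext
      rfl
    rw [e1, map_mul, map_mul, map_inv, eps_sGO, hG, mul_one, mul_inv_cancel]
  · rw [e]
    group

end D

end Cfsg.Agent.Lib.Helper5.PlusField
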