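import Mathlib
import Cfsg.Prelude
import Cfsg.Agent.Lib.Helper5.PlusField.Inndiag

set_option autoImplicit false
set_option linter.unusedSectionVars false
set_option linter.unusedVariables false

/-! Auxiliary lemmas for the conjugacy statement in cosets of field automorphisms. -/

namespace Cfsg.Agent.Lib.Helper5.PlusField

open QuadraticMap Module Matrix Cfsg Cfsg.Agent.Lib.Helper5.MaxTS Cfsg.Agent.Lib.Helper5.OAut
  Cfsg.Agent.Lib.Helper5.Refl Cfsg.Agent.Lib.Helper5
open Cfsg.Agent.Lib.Helper9.AOR Cfsg.Agent.Lib.Helper9.ASP Cfsg.Agent.Lib.Helper9.AOF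
open Cfsg.Agent.Lib.Helper9.APSL (uA uA_coe nrm nrm_zero nrm_succ norm_surjective)
open Cfsg.Agent.Lib.Helper5.SpinorHyp

section gen
variable {ι : Type} [Fintype ι] [DecidableEq ι] {F : Type*} [Field F] [Fintype F]
  {Q : QuadraticForm F (ι → F)} {i : ℕ} {α β : Fin i → ι}

/-- normalising the twisted norm by a scalar -/
theorem exists_norm_fix [Nonempty ι] (hQ : (polarBilin Q).Nondegenerate)
    (hfam : IsHypFamily Q α β) (hi : 3 ≤ i) (h5 : 5 ≤ Fintype.card ι) {w₀ : ι → F}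
    (hw₀ : Q w₀ = 1) (σ : RingAut F) (r : ℕ) (hr : 0 < r) (hord : orderOf σ = r)
    (β₀ : MulAut (POmega F ⇑Q)) (g : Matrix.GeneralLinearGroup ι F) (hβ : SRg β₀ g σ)
    (hpow : β₀ ^ r = 1) :
    ∃ ν : Fˣ, NkI σ (scU ν * g) r = 1 ∧ SRg β₀ (scU ν * g) σ := by
  have hσ : σ ^ r = 1 := hord ▸ pow_orderOf_eq_one σ
  have hinj : ∀ i j, i < r → j < r → σ ^ i = σ ^ j → i = j := by
    intro i j hi hj e
    exact pow_injOn_Iio_orderOf (by rw [hord]; exact hi) (by rw [hord]; exact hj) e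
  have h1 := SRg_pow hβ r
  rw [hpow, hσ] at h1
  obtain ⟨a, ha⟩ := scalar_of_SRg_one hQ hfam hi h5 hw₀ h1
  have hfix := scalar_norm_fixed σ g r hσ a ha
  obtain ⟨ν, hν⟩ := norm_surjective σ r hr hinj hσ a⁻¹ (by rw [map_inv, hfix])
  refine ⟨ν, ?_, SRg_scU ν hβ⟩
  rw [NkI_scU_mul, hν, ha, ← scU_mul, inv_mul_cancel, scU_one]

/-- an automorphism induced by a similarity is the conjugation -/
theorem eq_conjGO_of_induced (g : GL ι F) (hg : g ∈ Geo.quadSimilarityGroup (F := F) ⇑Q)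
    (γ : MulAut (POmega F ⇑Q))
    (hind : IsInducedBySemilinearPOmega ⇑Q g (RingEquiv.refl F) γ) :
    γ = conjGO Q ⟨g, hg⟩ := by
  ext x
  induction x using QuotientGroup.induction_on with
  | H s =>
    rw [conjGO_mk]
    apply hind
    rw [map_refl]
    rfl

omit [Fintype F] in
/-- the twisted norm of a rational matrix is a power -/
theorem NkI_of_fixed (σ : RingAut F) (t : GL ι F) (ht : sGI σ t = t) (k : ℕ) :
    NkI σ t k = t ^ k := by
  induction k with
  | zero => rw [NkI_zero, pow_zero]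
  | succ k ih => rw [NkI_succ, ih, map_pow, ht, pow_succ']

omit [Fintype F] in
theorem NkI_one (σ : RingAut F) (k : ℕ) : NkI σ (1 : GL ι F) k = 1 := by
  rw [NkI_of_fixed σ 1 (map_one _), one_pow]

end gen

section scal
variable {F : Type*} [Field F] [Fintype F] (m : ℕ)

/-- scalars fix the classes -/
theorem eps_scalar (G : ↥(Geo.quadSimilarityGroup (F := F) ⇑(plusForm m F))) (ν : Fˣ)
    (hG : (G : GL (Fin m ⊕ Fin m) F) = scU ν) : eps m G = 1 := by
  rw [eps_eq_one_iff]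
  have h1 : imageSubmodule ((G : GL (Fin m ⊕ Fin m) F) : Matrix _ _ F) (stdL (F := F) m) =
      stdL m := by
    rw [hG, scU_coe]
    unfold imageSubmodule
    have h2 : Matrix.toLin' ((ν : F) • (1 : Matrix (Fin m ⊕ Fin m) (Fin m ⊕ Fin m) F)) =
        (ν : F) • LinearMap.id := by
      rw [map_smul, Matrix.toLin'_one]
    rw [h2, Submodule.map_smul _ _ _ ν.ne_zero, Submodule.map_id]
  unfold sdist
  rw [h1, inf_idem, (stdL_max (F := F) m).1, Nat.sub_self]
  exact Even.zero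

theorem scU_mem (ν : Fˣ) : (scU ν : GL (Fin m ⊕ Fin m) F) ∈
    Geo.quadSimilarityGroup (F := F) ⇑(plusForm m F) :=
  scalarGL_mem (ν : F) ν.ne_zero

end scal

end Cfsg.Agent.Lib.Helper5.PlusField
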