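import Mathlib

set_option autoImplicit false
set_option linter.unusedSectionVars false
set_option linter.unusedVariables false

/-! The arithmetic deciding the splitting of the class of a graph-field automorphism. -/

namespace Cfsg.Agent.Lib.Helper5.PlusField

section arith
variable {F : Type*} [Field F] [Fintype F] {F₀ : Type*} [Field F₀] [Fintype F₀]

theorem neg_one_pow_eq_one_iff_of_ne (h2 : (2 : F) ≠ 0) (k : ℕ) :
    (-1 : F) ^ k = 1 ↔ Even k := by
  constructor
  · intro h
    by_contra hk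
    rw [Nat.not_even_iff_odd] at hk
    rw [hk.neg_one_pow] at h
    apply h2
    linear_combination -h
  · intro h
    exact h.neg_one_pow

/-- a square root of a non-square of the subfield times a non-square, to a power -/
theorem decisive_arith (j : F₀ →+* F) (q₀ : ℕ) (hF₀ : Fintype.card F₀ = q₀)
    (hF : Fintype.card F = q₀ ^ 2) (h2 : (2 : F) ≠ 0) (lam c : F) (μ₀ : F₀)
    (hμ₀ : ¬ IsSquare μ₀) (hc : c * c = j μ₀) (hlam : ¬ IsSquare lam) (k : ℕ) :
    IsSquare (c ^ k * (lam / c)) ↔ (Even k ∧ q₀ % 4 = 1) := by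
  have hchar : ringChar F ≠ 2 := by
    intro h
    apply h2
    haveI : CharP F 2 := ringChar.of_eq h
    exact CharP.cast_eq_zero F 2
  have h2₀ : (2 : F₀) ≠ 0 := by
    intro h
    apply h2
    have := congrArg j h
    rwa [map_ofNat, map_zero] at this
  have hchar₀ : ringChar F₀ ≠ 2 := by
    intro h
    apply h2₀
    haveI : CharP F₀ 2 := ringChar.of_eq h
    exact CharP.cast_eq_zero F₀ 2
  have hodd : q₀ % 2 = 1 := by
    have h1 := FiniteField.odd_card_of_char_ne_two hchar₀
    rw [hF₀] at h1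
    exact h1
  obtain ⟨t, ht⟩ : ∃ t, q₀ = 2 * t + 1 := ⟨q₀ / 2, by omega⟩
  have hμ0 : μ₀ ≠ 0 := by
    rintro rfl
    exact hμ₀ ⟨0, by rw [mul_zero]⟩
  have hlam0 : lam ≠ 0 := by
    rintro rfl
    exact hlam ⟨0, by rw [mul_zero]⟩
  have hc0 : c ≠ 0 := by
    rintro rfl
    rw [mul_zero] at hc
    exact hμ0 ((map_eq_zero j).mp hc.symm)
  -- Euler's criterion in the subfield
  have hE₀ : μ₀ ^ t = -1 := by
    have h1 := FiniteField.pow_dichotomy hchar₀ hμ0
    have h3 : Fintype.card F₀ / 2 = t := by rw [hF₀, ht]; omega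
    rw [h3] at h1
    rcases h1 with h1 | h1
    · exfalso
      apply hμ₀
      rw [FiniteField.isSquare_iff hchar₀ hμ0, h3]
      exact h1
    · exact h1
  have hcE : c ^ (Fintype.card F / 2) = (-1) ^ (t + 1) := by
    have h3 : Fintype.card F / 2 = 2 * (t * (t + 1)) := by
      rw [hF, ht]
      have : (2 * t + 1) ^ 2 = 2 * (2 * (t * (t + 1))) + 1 := by ring
      rw [this]
      omega
    rw [h3, pow_mul, pow_two, hc, pow_mul, ← map_pow, hE₀, map_neg, map_one]
  have hlE : lam ^ (Fintype.card F / 2) = -1 := by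
    rcases FiniteField.pow_dichotomy hchar hlam0 with h1 | h1
    · exfalso
      apply hlam
      rw [FiniteField.isSquare_iff hchar hlam0]
      exact h1
    · exact h1
  have hX0 : c ^ k * (lam / c) ≠ 0 :=
    mul_ne_zero (pow_ne_zero k hc0) (div_ne_zero hlam0 hc0)
  rw [FiniteField.isSquare_iff hchar hX0, mul_pow, ← pow_mul, mul_comm k, pow_mul, div_pow, hcE,
    hlE]
  rcases Nat.even_or_odd t with hte | hto
  · have h4 : (-1 : F) ^ (t + 1) = -1 := (hte.add_one).neg_one_pow
    have h5 : q₀ % 4 = 1 := by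
      obtain ⟨s, hs⟩ := hte
      omega
    rw [h4]
    have h6 : (-1 : F) ^ k * (-1 / -1) = (-1) ^ k := by
      rw [div_self (neg_ne_zero.mpr one_ne_zero), mul_one]
    rw [h6, neg_one_pow_eq_one_iff_of_ne h2]
    exact ⟨fun h => ⟨h, h5⟩, fun h => h.1⟩
  · have h4 : (-1 : F) ^ (t + 1) = 1 := (hto.add_one).neg_one_pow
    have h5 : q₀ % 4 ≠ 1 := by
      obtain ⟨s, hs⟩ := hto
      omega
    rw [h4, one_pow, one_mul, div_one]
    constructor
    · intro h
      exfalso
      apply h2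
      linear_combination -h
    · intro h
      exact absurd h.2 h5

/-- the norm of a non-square is a non-square of the subfield -/
theorem not_isSquare_norm (j : F₀ →+* F) (q₀ : ℕ) (hF₀ : Fintype.card F₀ = q₀)
    (hF : Fintype.card F = q₀ ^ 2) (h2 : (2 : F) ≠ 0) (lam : F) (hlam : ¬ IsSquare lam)
    (μ₀ : F₀) (hμ : j μ₀ = lam * lam ^ q₀) : ¬ IsSquare μ₀ := by
  have hchar : ringChar F ≠ 2 := by
    intro h
    apply h2
    haveI : CharP F 2 := ringChar.of_eq h
    exact CharP.cast_eq_zero F 2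
  have h2₀ : (2 : F₀) ≠ 0 := by
    intro h
    apply h2
    have := congrArg j h
    rwa [map_ofNat, map_zero] at this
  have hchar₀ : ringChar F₀ ≠ 2 := by
    intro h
    apply h2₀
    haveI : CharP F₀ 2 := ringChar.of_eq h
    exact CharP.cast_eq_zero F₀ 2
  have hodd : q₀ % 2 = 1 := by
    have h1 := FiniteField.odd_card_of_char_ne_two hchar₀
    rw [hF₀] at h1
    exact h1
  obtain ⟨t, ht⟩ : ∃ t, q₀ = 2 * t + 1 := ⟨q₀ / 2, by omega⟩
  have hlam0 : lam ≠ 0 := by
    rintro rfl
    exact hlam ⟨0, by rw [mul_zero]⟩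
  intro hsq
  have hμ0 : μ₀ ≠ 0 := by
    rintro rfl
    rw [map_zero] at hμ
    exact mul_ne_zero hlam0 (pow_ne_zero _ hlam0) hμ.symm
  have hE₀ : μ₀ ^ t = 1 := by
    have h3 : Fintype.card F₀ / 2 = t := by rw [hF₀, ht]; omega
    rw [← h3]
    exact (FiniteField.isSquare_iff hchar₀ hμ0).mp hsq
  apply hlam
  rw [FiniteField.isSquare_iff hchar hlam0]
  have h3 : Fintype.card F / 2 = (q₀ + 1) * t := by
    rw [hF, ht]
    have : (2 * t + 1) ^ 2 = 2 * ((2 * t + 1 + 1) * t) + 1 := by ring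
    rw [this]
    omega
  rw [h3, pow_mul, pow_succ', ← hμ, ← map_pow, hE₀, map_one]

end arith

end Cfsg.Agent.Lib.Helper5.PlusField
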