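import Mathlib
import Cfsg.Prelude
import Cfsg.Agent.Lib.Helper5.PlusField.AuxLemmas
import Cfsg.Agent.S2695
import Cfsg.Agent.S2613

set_option autoImplicit false
set_option linter.unusedSectionVars false
set_option linter.unusedVariables false

/-! Conjugacy in the cosets of field and graph-field automorphisms of `PΩ⁺`. -/

namespace Cfsg.Agent.Lib.Helper5.PlusField

open QuadraticMap Module Matrix Cfsg Cfsg.Agent.Lib.Helper5.MaxTS Cfsg.Agent.Lib.Helper5.OAut
  Cfsg.Agent.Lib.Helper5.Refl Cfsg.Agent.Lib.Helper5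
open Cfsg.Agent.Lib.Helper9.AOR Cfsg.Agent.Lib.Helper9.ASP Cfsg.Agent.Lib.Helper9.AOF
open Cfsg.Agent.Lib.Helper9.APSL (uA uA_coe nrm nrm_zero nrm_succ norm_surjective
  conjUnder_of_conj orderOf_conj' mem_fixed_subfield)
open Cfsg.Agent.Lib.Helper5.SpinorHyp Cfsg.Agent.Lib.Helper5.OmegaSimple

section cc'
variable {F : Type*} [Field F] [Fintype F] (m : ℕ)

/-- conjugacy of similarities with trivial twisted norm and equal class character -/
theorem exists_conj_of_eps' (hm1 : 1 ≤ m) (σ : RingAut F) (r : ℕ) (hr : r.Prime)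
    (hord : orderOf σ = r) (G G₂ : ↥(Geo.quadSimilarityGroup (F := F) ⇑(plusForm m F)))
    (hN : NkI σ (G : GL (Fin m ⊕ Fin m) F) r = 1)
    (hN₂ : NkI σ (G₂ : GL (Fin m ⊕ Fin m) F) r = 1) (heps : eps m G = eps m G₂) :
    ∃ k : ↥(Geo.quadSimilarityGroup (F := F) ⇑(plusForm m F)),
      (G : GL (Fin m ⊕ Fin m) F) * sGI σ (k : GL (Fin m ⊕ Fin m) F) =
        (k : GL (Fin m ⊕ Fin m) F) * G₂ := by
  obtain ⟨j, hj⟩ : ∃ j : ↥(FixedPoints.subfield (Subgroup.zpowers σ) F) →+* F,
      j = (FixedPoints.subfield (Subgroup.zpowers σ) F).subtype := ⟨_, rfl⟩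
  have hι : ∀ a : F, σ a = a → a ∈ Set.range j := by
    intro a ha
    rw [hj]
    exact ⟨⟨a, (mem_fixed_subfield σ a).mpr ha⟩, rfl⟩
  have hι' : ∀ t : ↥(FixedPoints.subfield (Subgroup.zpowers σ) F), σ (j t) = j t := by
    intro t
    rw [hj]
    exact (mem_fixed_subfield σ t.1).mp t.2
  haveI : Finite ↥(FixedPoints.subfield (Subgroup.zpowers σ) F) :=
    Finite.of_injective (fun x => (x : F)) Subtype.val_injective
  haveI : Fintype ↥(FixedPoints.subfield (Subgroup.zpowers σ) F) := Fintype.ofFinite _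
  exact exists_conj_of_eps m hm1 j σ r hr hord hι hι' G G₂ hN hN₂ heps

end cc'

section cases
variable {F : Type*} [Field F] [Fintype F] (m : ℕ)

theorem z2_ofAdd_one_mul_self :
    (Multiplicative.ofAdd (1 : ZMod 2)) * Multiplicative.ofAdd (1 : ZMod 2) = 1 := by
  decide

/-- **field automorphisms**: an element of order `r` in the coset is conjugate to the standard
field automorphism under the inner-diagonal group -/
theorem conj_field_case (hm : 5 ≤ m) (σ : RingAut F) (r : ℕ) (hr : r.Prime)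
    (hordσ : orderOf σ = r) (G : ↥(Geo.quadSimilarityGroup (F := F) ⇑(plusForm m F)))
    (hG : eps m G = 1)
    (hpow : (conjGO (plusForm m F) G * fO σ (plusForm_vm m σ)) ^ r = 1) :
    IsConjUnder (dPlus m) (fO σ (plusForm_vm m σ))
      (conjGO (plusForm m F) G * fO σ (plusForm_vm m σ)) := by
  obtain ⟨i₀⟩ : Nonempty (Fin m) := ⟨⟨0, by omega⟩⟩
  haveI : Nonempty (Fin m ⊕ Fin m) := ⟨Sum.inl i₀⟩
  have hQ := PlusGeom.plus_nondegenerate (F := F) m
  have hfam := Cfsg.Agent.S2613.plus_hypFamily (F := F) (le_refl m)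
  have h5 : 5 ≤ Fintype.card (Fin m ⊕ Fin m) := by
    simp only [Fintype.card_sum, Fintype.card_fin]; omega
  have hv1 : plusForm m F (v1 m i₀) ≠ 0 := by
    rw [plusForm_v1]; exact one_ne_zero
  have hSR : SRg (conjGO (plusForm m F) G * fO σ (plusForm_vm m σ))
      (G : GL (Fin m ⊕ Fin m) F) σ := by
    have h3 := SRg_mul (SRg_conjGO G) (SRg_fO σ (plusForm_vm m σ))
    rw [map_one, mul_one, one_mul] at h3
    exact h3
  obtain ⟨ν, hN, hSR'⟩ := exists_norm_fix hQ hfam (by omega) h5 (plusForm_v1 (F := F) m i₀) σ r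
    hr.pos hordσ _ _ hSR hpow
  obtain ⟨G', hG'⟩ : ∃ G' : ↥(Geo.quadSimilarityGroup (F := F) ⇑(plusForm m F)),
      G' = ⟨scU ν, scU_mem m ν⟩ * G := ⟨_, rfl⟩
  have hG'c : (G' : GL (Fin m ⊕ Fin m) F) = scU ν * (G : GL (Fin m ⊕ Fin m) F) := by
    rw [hG']; rfl
  have hG'e : eps m G' = 1 := by
    rw [hG', map_mul, eps_scalar m _ ν rfl, hG, mul_one]
  obtain ⟨k, hk⟩ := exists_conj_of_eps' m (by omega) σ r hr hordσ G' 1
    (by rw [hG'c]; exact hN) (NkI_one σ r) (by rw [hG'e, map_one])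
  have hk1 : (G' : GL (Fin m ⊕ Fin m) F) * sGI σ (k : GL (Fin m ⊕ Fin m) F) = k := by
    rw [hk]
    exact mul_one _
  obtain ⟨k', hk', hek'⟩ : ∃ k' : ↥(Geo.quadSimilarityGroup (F := F) ⇑(plusForm m F)),
      (G' : GL (Fin m ⊕ Fin m) F) * sGI σ (k' : GL (Fin m ⊕ Fin m) F) = k' ∧ eps m k' = 1 := by
    rcases z2_cases (eps m k) with h | h
    · exact ⟨k, hk1, h⟩
    · refine ⟨k * reflSim m (v1 m i₀) hv1, ?_, ?_⟩
      · show (G' : GL (Fin m ⊕ Fin m) F) * sGI σ ((k : GL (Fin m ⊕ Fin m) F) *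
          (reflSim m (v1 m i₀) hv1 : GL (Fin m ⊕ Fin m) F)) =
          (k : GL (Fin m ⊕ Fin m) F) * (reflSim m (v1 m i₀) hv1 : GL (Fin m ⊕ Fin m) F)
        rw [map_mul, sGI_reflSim m σ _ hv1 (vm_v1 m σ i₀), ← mul_assoc, hk1]
      · rw [map_mul, h, eps_reflSim]
        exact z2_ofAdd_one_mul_self
  rw [hG'c] at hk'
  have := SRg_conj (plusForm_v1 (F := F) m i₀) σ (plusForm_vm m σ) hSR' k' hk'
  exact ⟨conjGO (plusForm m F) k', (mem_dPlus_iff m _).2 ⟨k', hek', rfl⟩, this⟩

/-- **graph-field automorphisms**: an involution in the coset is conjugate to the standard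
graph-field automorphism under the inner-diagonal group -/
theorem conj_graph_case (hm : 5 ≤ m) (σ : RingAut F) (hordσ : orderOf σ = 2)
    (v : Fin m ⊕ Fin m → F) (hv : plusForm m F v ≠ 0) (hσv : vm σ v = v)
    (G : ↥(Geo.quadSimilarityGroup (F := F) ⇑(plusForm m F))) (hG : eps m G = 1)
    (hpow : (conjGO (plusForm m F) G *
      (conjGO (plusForm m F) (reflSim m v hv) * fO σ (plusForm_vm m σ))) ^ 2 = 1) :
    IsConjUnder (dPlus m) (conjGO (plusForm m F) (reflSim m v hv) * fO σ (plusForm_vm m σ))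
      (conjGO (plusForm m F) G *
        (conjGO (plusForm m F) (reflSim m v hv) * fO σ (plusForm_vm m σ))) := by
  obtain ⟨i₀⟩ : Nonempty (Fin m) := ⟨⟨0, by omega⟩⟩
  haveI : Nonempty (Fin m ⊕ Fin m) := ⟨Sum.inl i₀⟩
  have hQ := PlusGeom.plus_nondegenerate (F := F) m
  have hfam := Cfsg.Agent.S2613.plus_hypFamily (F := F) (le_refl m)
  have h5 : 5 ≤ Fintype.card (Fin m ⊕ Fin m) := by
    simp only [Fintype.card_sum, Fintype.card_fin]; omega
  obtain ⟨t, ht⟩ : ∃ t : ↥(Geo.quadSimilarityGroup (F := F) ⇑(plusForm m F)),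
      t = reflSim m v hv := ⟨_, rfl⟩
  rw [← ht] at hpow ⊢
  have hte : eps m t = Multiplicative.ofAdd (1 : ZMod 2) := by rw [ht]; exact eps_reflSim m v hv
  have htσ : sGI σ (t : GL (Fin m ⊕ Fin m) F) = t := by rw [ht]; exact sGI_reflSim m σ v hv hσv
  have htt : (t : GL (Fin m ⊕ Fin m) F) * t = 1 := by rw [ht]; exact reflSim_mul_self m v hv
  have hSRt : SRg (conjGO (plusForm m F) t * fO σ (plusForm_vm m σ))
      (t : GL (Fin m ⊕ Fin m) F) σ := by
    have h3 := SRg_mul (SRg_conjGO t) (SRg_fO σ (plusForm_vm m σ))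
    rw [map_one, mul_one, one_mul] at h3
    exact h3
  have hSR : SRg (conjGO (plusForm m F) G *
      (conjGO (plusForm m F) t * fO σ (plusForm_vm m σ)))
      ((G : GL (Fin m ⊕ Fin m) F) * t) σ := by
    have h3 := SRg_mul (SRg_conjGO G) hSRt
    rw [sGI_one, one_mul] at h3
    exact h3
  obtain ⟨ν, hN, hSR'⟩ := exists_norm_fix hQ hfam (by omega) h5 (plusForm_v1 (F := F) m i₀) σ 2
    (by norm_num) hordσ _ _ hSR hpow
  obtain ⟨G', hG'⟩ : ∃ G' : ↥(Geo.quadSimilarityGroup (F := F) ⇑(plusForm m F)),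
      G' = ⟨scU ν, scU_mem m ν⟩ * (G * t) := ⟨_, rfl⟩
  have hG'c : (G' : GL (Fin m ⊕ Fin m) F) =
      scU ν * ((G : GL (Fin m ⊕ Fin m) F) * (t : GL (Fin m ⊕ Fin m) F)) := by
    rw [hG']; rfl
  have hG'e : eps m G' = eps m t := by
    rw [hG', map_mul, map_mul, eps_scalar m _ ν rfl, hG, one_mul, one_mul]
  have hNt : NkI σ (t : GL (Fin m ⊕ Fin m) F) 2 = 1 := by
    rw [ht]; exact NkI_two_reflSim m σ v hv hσv
  obtain ⟨k, hk⟩ := exists_conj_of_eps' m (by omega) σ 2 Nat.prime_two hordσ G' t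
    (by rw [hG'c]; exact hN) hNt hG'e
  obtain ⟨k', hk', hek'⟩ : ∃ k' : ↥(Geo.quadSimilarityGroup (F := F) ⇑(plusForm m F)),
      (G' : GL (Fin m ⊕ Fin m) F) * sGI σ (k' : GL (Fin m ⊕ Fin m) F) =
        (k' : GL (Fin m ⊕ Fin m) F) * t ∧ eps m k' = 1 := by
    rcases z2_cases (eps m k) with h | h
    · exact ⟨k, hk, h⟩
    · refine ⟨k * t, ?_, ?_⟩
      · show (G' : GL (Fin m ⊕ Fin m) F) * sGI σ ((k : GL (Fin m ⊕ Fin m) F) *
          (t : GL (Fin m ⊕ Fin m) F)) =
          (k : GL (Fin m ⊕ Fin m) F) * (t : GL (Fin m ⊕ Fin m) F) * t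
        rw [map_mul, htσ, ← mul_assoc, hk]
      · rw [map_mul, h, hte]
        exact z2_ofAdd_one_mul_self
  rw [hG'c] at hk'
  have h1 := SRg_mul hSR' (SRg_conjGO k')
  have h2 := SRg_mul (SRg_conjGO k') hSRt
  rw [hk', mul_one] at h1
  rw [sGI_one, one_mul] at h2
  have h3 := SRg_unique_left (plusForm_v1 (F := F) m i₀) h1 h2
  refine ⟨conjGO (plusForm m F) k', (mem_dPlus_iff m _).2 ⟨k', hek', rfl⟩, ?_⟩
  rw [← h3]
  group

end cases

section final
variable {F : Type*} [Field F] [Fintype F]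

/-- **S2736 in general form** (stated for an unbundled copy `q` of the hyperbolic form) -/
theorem coset_conj_plus {m : ℕ} (hm : 5 ≤ m) (q : (Fin m ⊕ Fin m → F) → F)
    (hq : ⇑(plusForm m F) = q) (x δ : MulAut (POmega F q))
    (hx : IsFieldAutClassPOmega q x ∨
      ∃ (α γ φ : MulAut (POmega F q)) (σ : F ≃+* F) (v : Fin m ⊕ Fin m → F)
        (rr : GL (Fin m ⊕ Fin m) F),
        σ ≠ RingEquiv.refl F ∧ q v ≠ 0 ∧ (∀ i, σ (v i) = v i) ∧
        (rr : Matrix (Fin m ⊕ Fin m) (Fin m ⊕ Fin m) F) = reflectionMatrix q v ∧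
        IsInducedBySemilinearPOmega q rr (RingEquiv.refl F) γ ∧
        IsFieldAutPOmegaOf q σ φ ∧ α * x * α⁻¹ = γ * φ)
    {r : ℕ} (hr : r.Prime) (hxr : orderOf x = r) (hδ : δ ∈ inndiagGen q) :
    orderOf (δ * x) = r ↔ IsConjUnder (inndiagGen q) x (δ * x) := by
  subst hq
  obtain ⟨p, hp⟩ := CharP.exists F
  haveI := hp
  haveI : Fact p.Prime := ⟨CharP.char_is_prime F p⟩
  obtain ⟨i₀⟩ : Nonempty (Fin m) := ⟨⟨0, by omega⟩⟩
  haveI : Nonempty (Fin m ⊕ Fin m) := ⟨Sum.inl i₀⟩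
  have hQ := PlusGeom.plus_nondegenerate (F := F) m
  have hfam := Cfsg.Agent.S2613.plus_hypFamily (F := F) (le_refl m)
  have h5 : 5 ≤ Fintype.card (Fin m ⊕ Fin m) := by
    simp only [Fintype.card_sum, Fintype.card_fin]; omega
  have H : Hyp (plusForm m F) := Hyp.of_hypFamily hQ hfam (by omega) h5
  have hγ : gammaPOmega F ⇑(plusForm m F) = ⊤ := by
    rw [coe_plusForm]
    exact Cfsg.Agent.S2695.result hm
  rw [inndiagGen_eq_dPlus] at hδ ⊢
  haveI hD := dPlus_normal (F := F) m (by omega) hγ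
  constructor
  · intro hord
    have hpow : (δ * x) ^ r = 1 := by
      rw [← hord]
      exact pow_orderOf_eq_one _
    rcases hx with hx | hx
    · obtain ⟨α, φ, σ, hσ1, hφ, e1⟩ := hx
      have e1' : α * x * α⁻¹ = fO σ (plusForm_vm m σ) := by
        rw [e1]
        exact eq_fO_of_stdField σ _ hφ
      apply conjUnder_of_conj _ α
      obtain ⟨G, hG, hGe⟩ := (mem_dPlus_iff m _).1 (hD.conj_mem δ hδ α)
      have e2 : α * (δ * x) * α⁻¹ =
          conjGO (plusForm m F) G * fO σ (plusForm_vm m σ) := by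
        rw [hGe, ← e1']
        group
      rw [e1', e2]
      have hxpow : (fO σ (plusForm_vm m σ)) ^ r = 1 := by
        rw [← e1', conj_pow, ← hxr, pow_orderOf_eq_one, mul_one, mul_inv_cancel]
      have hordσ : orderOf (σ : RingAut F) = r :=
        orderOf_of_fO p H hγ σ (plusForm_vm m σ) hσ1 hr hxpow
      have hpow' : (conjGO (plusForm m F) G * fO σ (plusForm_vm m σ)) ^ r = 1 := by
        rw [← e2, conj_pow, hpow, mul_one, mul_inv_cancel]
      exact conj_field_case m hm σ r hr hordσ G hG hpow'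
    · obtain ⟨α, γ, φ, σ, v, rr, hσ1, hv, hσv, hrr, hγi, hφ, e1⟩ := hx
      have hσv' : vm σ v = v := funext hσv
      have hrr' : rr = (reflSim m v hv : GL (Fin m ⊕ Fin m) F) :=
        Units.ext (by rw [hrr, reflSim_coe])
      have hγe : γ = conjGO (plusForm m F) (reflSim m v hv) := by
        subst hrr'
        exact eq_conjGO_of_induced _ (reflSim m v hv).2 γ hγi
      have e1' : α * x * α⁻¹ =
          conjGO (plusForm m F) (reflSim m v hv) * fO σ (plusForm_vm m σ) := by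
        rw [e1, hγe, eq_fO_of_stdField σ (plusForm_vm m σ) hφ]
      have hxpow : (conjGO (plusForm m F) (reflSim m v hv) * fO σ (plusForm_vm m σ)) ^ r = 1 := by
        rw [← e1', conj_pow, ← hxr, pow_orderOf_eq_one, mul_one, mul_inv_cancel]
      have hSRt : SRg (conjGO (plusForm m F) (reflSim m v hv) * fO σ (plusForm_vm m σ))
          (reflSim m v hv : GL (Fin m ⊕ Fin m) F) σ := by
        have h3 := SRg_mul (SRg_conjGO (reflSim m v hv)) (SRg_fO σ (plusForm_vm m σ))
        rw [map_one, mul_one, one_mul] at h3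
        exact h3
      -- the order of `σ`
      have hτ : tauO p H hγ
          (conjGO (plusForm m F) (reflSim m v hv) * fO σ (plusForm_vm m σ)) = σ := by
        obtain ⟨c, hc, hg, e⟩ := hSRt
        exact tauO_eq p H hγ ⟨_, c, hc, hg, e⟩
      have hσr : (σ : RingAut F) ^ r = 1 := by
        rw [← hτ, ← map_pow, hxpow, map_one]
      have hordσ : orderOf (σ : RingAut F) = r := by
        rcases (Nat.dvd_prime hr).mp (orderOf_dvd_of_pow_eq_one hσr) with h4 | h4
        · exfalso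
          apply hσ1
          exact orderOf_eq_one_iff.mp h4
        · exact h4
      -- `r = 2`
      have hr2 : r = 2 := by
        rcases hr.eq_two_or_odd' with h | h
        · exact h
        · exfalso
          have h1 := SRg_pow hSRt r
          rw [hxpow, hσr] at h1
          obtain ⟨a, ha⟩ := scalar_of_SRg_one hQ hfam (by omega) h5
            (plusForm_v1 (F := F) m i₀) h1
          rw [NkI_of_fixed σ _ (sGI_reflSim m σ v hv hσv')] at ha
          obtain ⟨k, hk⟩ := h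
          have h2 : (reflSim m v hv : GL (Fin m ⊕ Fin m) F) ^ r =
              (reflSim m v hv : GL (Fin m ⊕ Fin m) F) := by
            rw [hk, pow_succ, pow_mul, pow_two, reflSim_mul_self, one_pow, one_mul]
          rw [h2] at ha
          have h3 := eps_scalar m (reflSim m v hv) a ha
          rw [eps_reflSim] at h3
          exact ofAdd_one_ne_one h3
      subst hr2
      apply conjUnder_of_conj _ α
      obtain ⟨G, hG, hGe⟩ := (mem_dPlus_iff m _).1 (hD.conj_mem δ hδ α)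
      have e2 : α * (δ * x) * α⁻¹ = conjGO (plusForm m F) G *
          (conjGO (plusForm m F) (reflSim m v hv) * fO σ (plusForm_vm m σ)) := by
        rw [hGe, ← e1']
        group
      rw [e1', e2]
      have hpow' : (conjGO (plusForm m F) G *
          (conjGO (plusForm m F) (reflSim m v hv) * fO σ (plusForm_vm m σ))) ^ 2 = 1 := by
        rw [← e2, conj_pow, hpow, mul_one, mul_inv_cancel]
      exact conj_graph_case m hm σ hordσ v hv hσv' G hG hpow'
  · rintro ⟨k, _, e⟩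
    rw [e, orderOf_conj', hxr]

end final

end Cfsg.Agent.Lib.Helper5.PlusField
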