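import Mathlib
import Cfsg.Prelude
import Cfsg.Agent.Lib.Helper5.PlusField.Main
import Cfsg.Agent.Lib.Helper9.APSL30

set_option autoImplicit false
set_option linter.unusedSectionVars false
set_option linter.unusedVariables false

/-! Involutory graph-field automorphisms of `PΩ⁺`: the standard ones, and their conjugacy under
the inner-diagonal group. -/

namespace Cfsg.Agent.Lib.Helper5.PlusField

open QuadraticMap Module Matrix Cfsg Cfsg.Agent.Lib.Helper5.MaxTS Cfsg.Agent.Lib.Helper5.OAut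
  Cfsg.Agent.Lib.Helper5.Refl Cfsg.Agent.Lib.Helper5
open Cfsg.Agent.Lib.Helper9.AOR Cfsg.Agent.Lib.Helper9.ASP Cfsg.Agent.Lib.Helper9.AOF
open Cfsg.Agent.Lib.Helper9.APSL (uA uA_coe nrm nrm_zero nrm_succ norm_surjective
  conjUnder_of_conj orderOf_conj' mem_fixed_subfield ringAut_comm involution_eq_pow)
open Cfsg.Agent.Lib.Helper5.SpinorHyp Cfsg.Agent.Lib.Helper5.OmegaSimple

section conjunder
variable {X : Type*} [Group X]

theorem isConjUnder_refl (H : Subgroup X) (x : X) : IsConjUnder H x x :=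
  ⟨1, H.one_mem, by group⟩

theorem isConjUnder_symm {H : Subgroup X} {x y : X} (h : IsConjUnder H x y) :
    IsConjUnder H y x := by
  obtain ⟨k, hk, rfl⟩ := h
  exact ⟨k⁻¹, H.inv_mem hk, by group⟩

theorem isConjUnder_trans {H : Subgroup X} {x y z : X} (h : IsConjUnder H x y)
    (h' : IsConjUnder H y z) : IsConjUnder H x z := by
  obtain ⟨k, hk, rfl⟩ := h
  obtain ⟨k', hk', rfl⟩ := h'
  exact ⟨k' * k, H.mul_mem hk' hk, by group⟩

/-- conjugating both elements by an element normalising the subgroup -/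
theorem isConjUnder_conj {H : Subgroup X} [hH : H.Normal] {x y : X} (h : IsConjUnder H x y)
    (a : X) : IsConjUnder H (a * x * a⁻¹) (a * y * a⁻¹) := by
  obtain ⟨k, hk, rfl⟩ := h
  exact ⟨a * k * a⁻¹, hH.conj_mem k hk a, by group⟩

end conjunder

section gf
variable {F : Type*} [Field F] [Fintype F] (m : ℕ)

/-- the standard graph-field automorphism attached to a rational non-singular vector -/
noncomputable def gfStd (σ : RingAut F) (v : Fin m ⊕ Fin m → F) (hv : plusForm m F v ≠ 0) :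
    MulAut (POmega F ⇑(plusForm m F)) :=
  conjGO (plusForm m F) (reflSim m v hv) * fO σ (plusForm_vm m σ)

theorem SRg_gfStd (σ : RingAut F) (v : Fin m ⊕ Fin m → F) (hv : plusForm m F v ≠ 0) :
    SRg (gfStd m σ v hv) (reflSim m v hv : GL (Fin m ⊕ Fin m) F) σ := by
  have h3 := SRg_mul (SRg_conjGO (reflSim m v hv)) (SRg_fO σ (plusForm_vm m σ))
  rw [map_one, mul_one, one_mul] at h3
  exact h3

theorem gfStd_sq (hm1 : 1 ≤ m) (σ : RingAut F) (hσ : σ ^ 2 = 1) (v : Fin m ⊕ Fin m → F)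
    (hv : plusForm m F v ≠ 0) (hσv : vm σ v = v) : gfStd m σ v hv ^ 2 = 1 := by
  obtain ⟨i₀⟩ : Nonempty (Fin m) := ⟨⟨0, by omega⟩⟩
  have h1 := SRg_pow (SRg_gfStd m σ v hv) 2
  rw [NkI_two_reflSim m σ v hv hσv, hσ] at h1
  exact SRg_unique_left (plusForm_v1 (F := F) m i₀) h1 SRg_one

theorem reflSim_mul_self' (v : Fin m ⊕ Fin m → F) (hv : plusForm m F v ≠ 0) :
    reflSim m v hv * reflSim m v hv = 1 := by
  apply Subtype.ext
  exact reflSim_mul_self m v hv

theorem reflSim_inv (v : Fin m ⊕ Fin m → F) (hv : plusForm m F v ≠ 0) :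
    (reflSim m v hv)⁻¹ = reflSim m v hv :=
  inv_eq_of_mul_eq_one_left (reflSim_mul_self' m v hv)

/-- changing the rational vector -/
theorem gfStd_change (hm : 5 ≤ m) (σ : RingAut F) (hord : orderOf σ = 2)
    (v : Fin m ⊕ Fin m → F) (hv : plusForm m F v ≠ 0) (hσv : vm σ v = v)
    (v' : Fin m ⊕ Fin m → F) (hv' : plusForm m F v' ≠ 0) (hσv' : vm σ v' = v') :
    IsConjUnder (dPlus m) (gfStd m σ v hv) (gfStd m σ v' hv') := by
  have hσ : σ ^ 2 = 1 := by rw [← hord]; exact pow_orderOf_eq_one σ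
  have e : gfStd m σ v' hv' =
      conjGO (plusForm m F) (reflSim m v' hv' * reflSim m v hv) *
        (conjGO (plusForm m F) (reflSim m v hv) * fO σ (plusForm_vm m σ)) := by
    unfold gfStd
    rw [← mul_assoc, ← map_mul, mul_assoc (reflSim m v' hv'), reflSim_mul_self', mul_one]
  rw [e]
  apply conj_graph_case m hm σ hord v hv hσv
  · rw [map_mul, eps_reflSim, eps_reflSim]
    exact z2_ofAdd_one_mul_self
  · rw [← e]
    exact gfStd_sq m (by omega) σ hσ v' hv' hσv'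

/-- **a standard involutory graph-field automorphism is conjugate, under the inner-diagonal
group, to each of its conjugates under the full automorphism group** -/
theorem gfStd_aut_conj (p f : ℕ) [Fact p.Prime] [CharP F p] (hF : Fintype.card F = p ^ f)
    (hm : 5 ≤ m) (hγ : gammaPOmega F ⇑(plusForm m F) = ⊤) (σ : RingAut F)
    (hord : orderOf σ = 2) (v : Fin m ⊕ Fin m → F) (hv : plusForm m F v ≠ 0)
    (hσv : vm σ v = v) (γ : MulAut (POmega F ⇑(plusForm m F))) :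
    IsConjUnder (dPlus m) (gfStd m σ v hv) (γ * gfStd m σ v hv * γ⁻¹) := by
  obtain ⟨i₀⟩ : Nonempty (Fin m) := ⟨⟨0, by omega⟩⟩
  have hσ : σ ^ 2 = 1 := by rw [← hord]; exact pow_orderOf_eq_one σ
  obtain ⟨τ, g₁, c₁, hc₁, hg₁, rfl⟩ := SR_total hγ γ
  have hg₁s := sim_of_semi m g₁ τ c₁ hc₁ hg₁
  obtain ⟨Gs, hGs⟩ : ∃ Gs : ↥(Geo.quadSimilarityGroup (F := F) ⇑(plusForm m F)),
      (Gs : GL (Fin m ⊕ Fin m) F) = g₁ := ⟨⟨g₁, hg₁s⟩, rfl⟩
  obtain ⟨t, ht⟩ : ∃ t : ↥(Geo.quadSimilarityGroup (F := F) ⇑(plusForm m F)),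
      t = reflSim m v hv := ⟨_, rfl⟩
  obtain ⟨K, hK⟩ : ∃ K : ↥(Geo.quadSimilarityGroup (F := F) ⇑(plusForm m F)),
      K = Gs * sGO (τ : RingAut F) (plusForm_vm m τ) t *
        (sGO σ (plusForm_vm m σ) Gs)⁻¹ * t⁻¹ := ⟨_, rfl⟩
  have hKe : eps m K = 1 := by
    rw [hK, map_mul, map_mul, map_mul, map_inv, map_inv, eps_sGO, eps_sGO]
    rw [mul_comm (eps m Gs) (eps m t), mul_inv_cancel_right, mul_inv_cancel]
  have hγS : SRg (semiAut g₁ τ c₁ hg₁) g₁ (τ : RingAut F) := ⟨c₁, hc₁, hg₁, rfl⟩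
  have hx := SRg_gfStd m σ v hv
  rw [← ht] at hx
  have h1 := SRg_mul hγS hx
  have h2 := SRg_mul (SRg_mul (SRg_conjGO K) hx) hγS
  have hcomm : (τ : RingAut F) * σ = 1 * σ * τ := by
    rw [one_mul]
    exact ringAut_comm p f hF τ σ
  have hmat : g₁ * sGI (τ : RingAut F) (t : GL (Fin m ⊕ Fin m) F) =
      (K : GL (Fin m ⊕ Fin m) F) * sGI 1 (t : GL (Fin m ⊕ Fin m) F) * sGI (1 * σ) g₁ := by
    rw [sGI_one, one_mul, hK, ← hGs]
    show (Gs : GL (Fin m ⊕ Fin m) F) * sGI (τ : RingAut F) (t : GL (Fin m ⊕ Fin m) F) =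
      (Gs : GL (Fin m ⊕ Fin m) F) * sGI (τ : RingAut F) (t : GL (Fin m ⊕ Fin m) F) *
        (sGI σ (Gs : GL (Fin m ⊕ Fin m) F))⁻¹ * (t : GL (Fin m ⊕ Fin m) F)⁻¹ *
        (t : GL (Fin m ⊕ Fin m) F) * sGI σ (Gs : GL (Fin m ⊕ Fin m) F)
    group
  rw [hcomm, hmat] at h1
  have h3 := SRg_unique_left (plusForm_v1 (F := F) m i₀) h1 h2
  have e : semiAut g₁ τ c₁ hg₁ * gfStd m σ v hv * (semiAut g₁ τ c₁ hg₁)⁻¹ =
      conjGO (plusForm m F) K *
        (conjGO (plusForm m F) (reflSim m v hv) * fO σ (plusForm_vm m σ)) := by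
    rw [h3]
    unfold gfStd
    group
  rw [e]
  apply conj_graph_case m hm σ hord v hv hσv K hKe
  rw [← e, conj_pow]
  show _ * gfStd m σ v hv ^ 2 * _ = 1
  rw [gfStd_sq m (by omega) σ hσ v hv hσv, mul_one, mul_inv_cancel]

/-- the shape of the hypothesis "`x` is a graph-field automorphism" -/
def IsGFClass (x : MulAut (POmega F ⇑(plusForm m F))) : Prop :=
  ∃ (α γ φ : MulAut (POmega F ⇑(plusForm m F))) (σ : F ≃+* F) (v : Fin m ⊕ Fin m → F)
    (rr : GL (Fin m ⊕ Fin m) F),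
    σ ≠ RingEquiv.refl F ∧ plusForm m F v ≠ 0 ∧ (∀ i, σ (v i) = v i) ∧
    (rr : Matrix (Fin m ⊕ Fin m) (Fin m ⊕ Fin m) F) = reflectionMatrix ⇑(plusForm m F) v ∧
    IsInducedBySemilinearPOmega ⇑(plusForm m F) rr (RingEquiv.refl F) γ ∧
    IsFieldAutPOmegaOf ⇑(plusForm m F) σ φ ∧ α * x * α⁻¹ = γ * φ

/-- an involutory graph-field automorphism is conjugate to a standard one -/
theorem exists_gfStd_of_class (p : ℕ) [Fact p.Prime] [CharP F p] (hm : 5 ≤ m)
    (hγ : gammaPOmega F ⇑(plusForm m F) = ⊤) (x : MulAut (POmega F ⇑(plusForm m F)))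
    (hx : IsGFClass m x) (hx2 : orderOf x = 2) :
    ∃ (α : MulAut (POmega F ⇑(plusForm m F))) (σ : RingAut F) (v : Fin m ⊕ Fin m → F)
      (hv : plusForm m F v ≠ 0), orderOf σ = 2 ∧ vm σ v = v ∧
      α * x * α⁻¹ = gfStd m σ v hv := by
  obtain ⟨i₀⟩ : Nonempty (Fin m) := ⟨⟨0, by omega⟩⟩
  haveI : Nonempty (Fin m ⊕ Fin m) := ⟨Sum.inl i₀⟩
  have hQ := PlusGeom.plus_nondegenerate (F := F) m
  have hfam := Cfsg.Agent.S2613.plus_hypFamily (F := F) (le_refl m)
  have h5 : 5 ≤ Fintype.card (Fin m ⊕ Fin m) := by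
    simp only [Fintype.card_sum, Fintype.card_fin]; omega
  have H : Hyp (plusForm m F) := Hyp.of_hypFamily hQ hfam (by omega) h5
  obtain ⟨α, γ, φ, σ, v, rr, hσ1, hv, hσv, hrr, hγi, hφ, e1⟩ := hx
  have hσv' : vm σ v = v := funext hσv
  have hrr' : rr = (reflSim m v hv : GL (Fin m ⊕ Fin m) F) :=
    Units.ext (by rw [hrr, reflSim_coe])
  have hγe : γ = conjGO (plusForm m F) (reflSim m v hv) := by
    subst hrr'
    exact eq_conjGO_of_induced _ (reflSim m v hv).2 γ hγi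
  have e1' : α * x * α⁻¹ = gfStd m σ v hv := by
    unfold gfStd
    rw [e1, hγe, eq_fO_of_stdField σ (plusForm_vm m σ) hφ]
  have hxpow : (gfStd m σ v hv) ^ 2 = 1 := by
    rw [← e1', conj_pow, ← hx2, pow_orderOf_eq_one, mul_one, mul_inv_cancel]
  have hSRt := SRg_gfStd m σ v hv
  have hτ : tauO p H hγ (gfStd m σ v hv) = σ := by
    obtain ⟨c, hc, hg, e⟩ := hSRt
    exact tauO_eq p H hγ ⟨_, c, hc, hg, e⟩
  have hσr : (σ : RingAut F) ^ 2 = 1 := by
    rw [← hτ, ← map_pow, hxpow, map_one]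
  have hordσ : orderOf (σ : RingAut F) = 2 := by
    rcases (Nat.dvd_prime Nat.prime_two).mp (orderOf_dvd_of_pow_eq_one hσr) with h4 | h4
    · exfalso
      apply hσ1
      exact orderOf_eq_one_iff.mp h4
    · exact h4
  exact ⟨α, σ, v, hv, hordσ, hσv', e1'⟩

/-- **parts (a) and (b)**: the degree of the field is even, and all involutory graph-field
automorphisms are conjugate under the inner-diagonal group -/
theorem gf_even_and_conj (p f : ℕ) [Fact p.Prime] [CharP F p] (hF : Fintype.card F = p ^ f)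
    (hm : 5 ≤ m) (hγ : gammaPOmega F ⇑(plusForm m F) = ⊤)
    (x : MulAut (POmega F ⇑(plusForm m F))) (hx : IsGFClass m x) (hx2 : orderOf x = 2) :
    Even f ∧ ∀ y : MulAut (POmega F ⇑(plusForm m F)), IsGFClass m y → orderOf y = 2 →
      IsConjUnder (dPlus m) x y := by
  obtain ⟨α, σ, v, hv, hord, hσv, e⟩ := exists_gfStd_of_class m p hm hγ x hx hx2
  have hσ1 : σ ≠ 1 := by
    intro h
    rw [h, orderOf_one] at hord
    omega
  have hσ2 : σ * σ = 1 := by
    rw [← pow_two, ← hord]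
    exact pow_orderOf_eq_one σ
  obtain ⟨hev, hpow⟩ := involution_eq_pow p f hF σ hσ1 hσ2
  refine ⟨hev, ?_⟩
  intro y hy hy2
  obtain ⟨α', σ', v', hv', hord', hσv', e'⟩ := exists_gfStd_of_class m p hm hγ y hy hy2
  have hσ1' : σ' ≠ 1 := by
    intro h
    rw [h, orderOf_one] at hord'
    omega
  have hσ2' : σ' * σ' = 1 := by
    rw [← pow_two, ← hord']
    exact pow_orderOf_eq_one σ'
  obtain ⟨-, hpow'⟩ := involution_eq_pow p f hF σ' hσ1' hσ2'
  have hσσ : σ' = σ := by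
    apply RingEquiv.ext
    intro a
    rw [hpow, hpow']
  subst hσσ
  -- `x` is conjugate to the standard automorphism
  have hxs : IsConjUnder (dPlus m) (gfStd m σ' v hv) x := by
    have h1 := gfStd_aut_conj m p f hF hm hγ σ' hord v hv hσv α⁻¹
    have h2 : α⁻¹ * gfStd m σ' v hv * α⁻¹⁻¹ = x := by
      rw [← e]
      group
    rw [h2] at h1
    exact h1
  have hys : IsConjUnder (dPlus m) (gfStd m σ' v' hv') y := by
    have h1 := gfStd_aut_conj m p f hF hm hγ σ' hord v' hv' hσv' α'⁻¹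
    have h2 : α'⁻¹ * gfStd m σ' v' hv' * α'⁻¹⁻¹ = y := by
      rw [← e']
      group
    rw [h2] at h1
    exact h1
  exact isConjUnder_trans (isConjUnder_symm hxs)
    (isConjUnder_trans (gfStd_change m hm σ' hord v hv hσv v' hv' hσv') hys)

end gf

end Cfsg.Agent.Lib.Helper5.PlusField
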