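import Mathlib
import Cfsg.Prelude
import Cfsg.Agent.Lib.Helper5.IsomReindex
import Cfsg.Agent.Lib.Helper5.PlusField.GFConj
import Cfsg.Agent.Lib.Helper9.AOF15

set_option autoImplicit false
set_option linter.unusedSectionVars false
set_option linter.unusedVariables false

/-! Transport of automorphisms of `PΩ` along a relabelling of the coordinates, and along an
isometry, for automorphisms induced by semilinear maps. -/

namespace Cfsg.Agent.Lib.Helper5.PlusField

open QuadraticMap Module Matrix Cfsg Cfsg.Agent.Lib.Helper5.MaxTS Cfsg.Agent.Lib.Helper5.OAut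
  Cfsg.Agent.Lib.Helper5.Refl Cfsg.Agent.Lib.Helper5
open Cfsg.Agent.Lib.Helper9.AOR Cfsg.Agent.Lib.Helper9.ASP Cfsg.Agent.Lib.Helper9.AOF
open Cfsg.Agent.Lib.Helper5.SpinorHyp Cfsg.Agent.Lib.Helper5.OmegaSimple
open Cfsg.Agent.Lib.Helper5.IsomReindex

section gen
variable {ι ι' : Type} [Fintype ι] [DecidableEq ι] [Fintype ι'] [DecidableEq ι']
  {F : Type*} [Field F]

/-- **transport of an automorphism induced by a semilinear map** along an isomorphism of the
isometry groups -/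
theorem induced_transport {Q : (ι → F) → F} {Q' : (ι' → F) → F}
    (E : ↥(isometryGroup F Q) ≃* ↥(isometryGroup F Q')) (g : GL ι F) (g' : GL ι' F)
    (σ : F ≃+* F)
    (hE : ∀ s s' : ↥(isometryGroup F Q'),
      ((s' : GL ι' F) : Matrix ι' ι' F) =
        (g' : Matrix ι' ι' F) * ((s : GL ι' F) : Matrix ι' ι' F).map σ *
          ((g'⁻¹ : GL ι' F) : Matrix ι' ι' F) →
      (((E.symm s' : ↥(isometryGroup F Q)) : GL ι F) : Matrix ι ι F) =
        (g : Matrix ι ι F) * (((E.symm s : ↥(isometryGroup F Q)) : GL ι F) : Matrix ι ι F).map σ *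
          ((g⁻¹ : GL ι F) : Matrix ι ι F))
    (β : MulAut (POmega F Q)) (hβ : IsInducedBySemilinearPOmega Q g σ β) :
    IsInducedBySemilinearPOmega Q' g' σ (autCongr (pcEquiv (commEquiv E)) β) := by
  intro s s' hs
  rw [autCongr_apply, pcEquiv_symm_mk]
  have h1 := hβ ((commEquiv E).symm s) ((commEquiv E).symm s') (hE s.1 s'.1 hs)
  rw [h1, pcEquiv_mk, MulEquiv.apply_symm_apply]

/-- relabelling the coordinates, on the general linear group -/
noncomputable def reGL (e : ι ≃ ι') : GL ι F ≃* GL ι' F :=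
  Units.mapEquiv (Matrix.reindexAlgEquiv F F e).toMulEquiv

theorem reGL_coe (e : ι ≃ ι') (g : GL ι F) :
    ((reGL e g : GL ι' F) : Matrix ι' ι' F) = Matrix.reindex e e (g : Matrix ι ι F) := rfl

theorem reGL_symm_coe (e : ι ≃ ι') (g : GL ι' F) :
    (((reGL e).symm g : GL ι F) : Matrix ι ι F) =
      Matrix.reindex e.symm e.symm (g : Matrix ι' ι' F) := rfl

theorem reGL_mulVec (e : ι ≃ ι') (g : GL ι F) (v : ι' → F) :
    ((reGL e g : GL ι' F) : Matrix ι' ι' F) *ᵥ v =
      ((g : Matrix ι ι F) *ᵥ (v ∘ e)) ∘ e.symm := by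
  rw [reGL_coe, Matrix.reindex_apply, Matrix.submatrix_mulVec_equiv]
  rfl

theorem reGL_sGI (e : ι ≃ ι') (σ : RingAut F) (g : GL ι F) :
    reGL e (sGI σ g) = sGI σ (reGL e g) := by
  apply Units.ext
  rw [reGL_coe, sGI_coe, sGI_coe, reGL_coe]
  ext a b
  rfl

theorem reGL_det (e : ι ≃ ι') (g : GL ι F) :
    ((reGL e g : GL ι' F) : Matrix ι' ι' F).det = (g : Matrix ι ι F).det := by
  rw [reGL_coe]
  exact Matrix.det_reindex_self e _

theorem reGL_scU (e : ι ≃ ι') (u : Fˣ) : reGL e (scU u : GL ι F) = scU u := by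
  apply Units.ext
  rw [reGL_coe, scU_coe, scU_coe]
  ext a b
  simp [Matrix.reindex_apply, Matrix.one_apply]

end gen

section rel
variable {ι ι' : Type} [Fintype ι] [DecidableEq ι] [Fintype ι'] [DecidableEq ι']
  {F : Type*} [Field F] [Fintype F]
  {Q : QuadraticForm F (ι → F)} {Q' : QuadraticForm F (ι' → F)} (e : ι ≃ ι')
  (h : ∀ v : ι' → F, Q' v = Q (v ∘ e))

include h

theorem reGL_quad (g : GL ι F) (v : ι' → F) :
    Q' (((reGL e g : GL ι' F) : Matrix ι' ι' F) *ᵥ v) = Q ((g : Matrix ι ι F) *ᵥ (v ∘ e)) := by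
  rw [reGL_mulVec, h]
  congr 1
  ext i
  simp

theorem reGL_mem_sim (g : GL ι F) (hg : g ∈ Geo.quadSimilarityGroup (F := F) ⇑Q) :
    reGL e g ∈ Geo.quadSimilarityGroup (F := F) ⇑Q' := by
  obtain ⟨c, hc⟩ := hg
  refine ⟨c, fun v => ?_⟩
  rw [reGL_quad e h, hc, h]

theorem reGL_symm_mem_sim (g : GL ι' F) (hg : g ∈ Geo.quadSimilarityGroup (F := F) ⇑Q') :
    (reGL e).symm g ∈ Geo.quadSimilarityGroup (F := F) ⇑Q := by
  obtain ⟨c, hc⟩ := hg
  refine ⟨c, fun v => ?_⟩
  have h1 := hc (v ∘ e.symm)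
  have h2 : g = reGL e ((reGL e).symm g) := ((reGL e).apply_symm_apply g).symm
  rw [h2, reGL_quad e h, h] at h1
  have h3 : (v ∘ e.symm) ∘ e = v := by
    ext i
    simp
  rw [h3] at h1
  exact h1

/-- relabelling the coordinates, on the similarity groups -/
noncomputable def simRe : ↥(Geo.quadSimilarityGroup (F := F) ⇑Q) ≃*
    ↥(Geo.quadSimilarityGroup (F := F) ⇑Q') where
  toFun g := ⟨reGL e g, reGL_mem_sim e h g g.2⟩
  invFun g := ⟨(reGL e).symm g, reGL_symm_mem_sim e h g g.2⟩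
  left_inv g := Subtype.ext ((reGL e).symm_apply_apply _)
  right_inv g := Subtype.ext ((reGL e).apply_symm_apply _)
  map_mul' a b := Subtype.ext (map_mul (reGL e) _ _)

theorem simRe_coe (g : ↥(Geo.quadSimilarityGroup (F := F) ⇑Q)) :
    ((simRe e h g : ↥(Geo.quadSimilarityGroup (F := F) ⇑Q')) : GL ι' F) = reGL e g := rfl

/-- relabelling the coordinates, on the simple groups -/
noncomputable def psiRe : POmega F ⇑Q ≃* POmega F ⇑Q' :=
  pcEquiv (commEquiv (isometryGroupReindexMul e ⇑Q ⇑Q' h))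

theorem isoRe_symm_coe (s : ↥(isometryGroup F ⇑Q')) :
    ((((isometryGroupReindexMul e ⇑Q ⇑Q' h).symm s : ↥(isometryGroup F ⇑Q)) : GL ι F) :
      Matrix ι ι F) = Matrix.reindex e.symm e.symm ((s : GL ι' F) : Matrix ι' ι' F) := rfl

/-- an automorphism induced by a semilinear map, relabelled -/
theorem induced_psiRe (g : GL ι F) (σ : F ≃+* F) (β : MulAut (POmega F ⇑Q))
    (hβ : IsInducedBySemilinearPOmega ⇑Q g σ β) :
    IsInducedBySemilinearPOmega ⇑Q' (reGL e g) σ (autCongr (psiRe e h) β) := by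
  apply induced_transport (isometryGroupReindexMul e ⇑Q ⇑Q' h) g (reGL e g) σ _ β hβ
  intro s s' hs
  rw [isoRe_symm_coe, isoRe_symm_coe, hs, reGL_coe]
  have h1 : (((reGL e g)⁻¹ : GL ι' F) : Matrix ι' ι' F) =
      Matrix.reindex e e ((g⁻¹ : GL ι F) : Matrix ι ι F) := by
    rw [← map_inv, reGL_coe]
  rw [h1]
  simp only [Matrix.reindex_apply, Equiv.symm_symm]
  rw [← Matrix.submatrix_mul_equiv _ _ e e e, ← Matrix.submatrix_mul_equiv _ _ e e e,
    Matrix.submatrix_submatrix, Matrix.submatrix_submatrix]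
  simp only [Equiv.symm_comp_self, Matrix.submatrix_id_id]
  rfl

/-- the transport of the automorphism induced by a similarity -/
theorem autCongr_psiRe_conjGO (g : ↥(Geo.quadSimilarityGroup (F := F) ⇑Q)) :
    autCongr (psiRe e h) (conjGO Q g) = conjGO Q' (simRe e h g) :=
  eq_conjGO_of_induced _ (simRe e h g).2 _
    (induced_psiRe e h (g : GL ι F) (RingEquiv.refl F) _ (conjGO_induced g))

/-- the transport of a standard field automorphism -/
theorem autCongr_psiRe_fO (σ : RingAut F) (hσ : ∀ v, Q (vm σ v) = σ (Q v))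
    (hσ' : ∀ v, Q' (vm σ v) = σ (Q' v)) :
    autCongr (psiRe e h) (fO σ hσ) = fO σ hσ' := by
  apply eq_semiAut_of_induced
  have h1 := induced_psiRe e h (1 : GL ι F) σ (fO σ hσ) (semiAut_induced _ _ _ _)
  rw [map_one] at h1
  exact h1

/-- the transport of an automorphism induced by a semisimilarity, relabelled -/
theorem SRg_psiRe {β : MulAut (POmega F ⇑Q)} {g : GL ι F} {σ : RingAut F} (hβ : SRg β g σ) :
    SRg (autCongr (psiRe e h) β) (reGL e g) σ := by
  obtain ⟨c, hc, hg, rfl⟩ := hβ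
  have hg' : ∀ v, Q' (sm (reGL e g) σ v) = c * σ (Q' v) := by
    intro v
    unfold sm
    rw [reGL_quad e h, h]
    exact hg (v ∘ e)
  exact ⟨c, hc, hg', eq_semiAut_of_induced _ _ _ hg' _
    (induced_psiRe e h g σ _ (semiAut_induced g σ c hg))⟩

theorem mult_reGL (w₀ : ι → F) (g : GL ι F) :
    Cfsg.Agent.Lib.Helper5.OAut.mult Q' (w₀ ∘ e.symm) (reGL e g) =
      Cfsg.Agent.Lib.Helper5.OAut.mult Q w₀ g := by
  unfold Cfsg.Agent.Lib.Helper5.OAut.mult
  rw [reGL_quad e h]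
  congr 2
  ext i
  simp

theorem Pdet_reGL (w₀ : ι → F) (n : ℕ) (g : GL ι F) :
    Pdet Q' (w₀ ∘ e.symm) n (reGL e g) ↔ Pdet Q w₀ n g := by
  unfold Pdet detRatio
  rw [mult_reGL e h, reGL_det]

end rel

section indep
variable {ι : Type} [Fintype ι] [DecidableEq ι] {F : Type*} [Field F]
  {Q : QuadraticForm F (ι → F)}

theorem mult_indep {w w' : ι → F} (hw : Q w = 1) (hw' : Q w' = 1) {g : GL ι F}
    (hg : g ∈ Geo.quadSimilarityGroup (F := F) ⇑Q) :
    Cfsg.Agent.Lib.Helper5.OAut.mult Q w g = Cfsg.Agent.Lib.Helper5.OAut.mult Q w' g := by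
  have h1 := mult_spec hw' hg w
  rw [hw, mul_one] at h1
  exact h1

theorem Pdet_indep {w w' : ι → F} (hw : Q w = 1) (hw' : Q w' = 1) (n : ℕ) {g : GL ι F}
    (hg : g ∈ Geo.quadSimilarityGroup (F := F) ⇑Q) : Pdet Q w n g ↔ Pdet Q w' n g := by
  unfold Pdet detRatio
  rw [mult_indep hw hw' hg]

end indep

section semiT
variable {ι : Type} [Fintype ι] [DecidableEq ι] {F : Type*} [Field F] [Fintype F]
  {Q Q' : QuadraticForm F (ι → F)} (T : GL ι F)
  (hT : ∀ v, Q' ((T : Matrix ι ι F) *ᵥ v) = Q v)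

theorem isoConj_symm_coe (s : ↥(isometryGroup F ⇑Q')) :
    (((isoConj T hT).symm s : ↥(isometryGroup F ⇑Q)) : GL ι F) = T⁻¹ * s * T := rfl

/-- an automorphism induced by a semilinear map, transported along an isometry -/
theorem induced_psiT (g : GL ι F) (σ : RingAut F) (β : MulAut (POmega F ⇑Q))
    (hβ : IsInducedBySemilinearPOmega ⇑Q g σ β) :
    IsInducedBySemilinearPOmega ⇑Q' (T * g * (sGI σ T)⁻¹) σ (autCongr (psiT T hT) β) := by
  apply induced_transport (isoConj T hT) g (T * g * (sGI σ T)⁻¹) σ _ β hβ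
  intro s s' hs
  have hs' : (s' : GL ι F) = (T * g * (sGI σ T)⁻¹) * sGI σ (s : GL ι F) *
      (T * g * (sGI σ T)⁻¹)⁻¹ := by
    apply Units.ext
    rw [Units.val_mul, Units.val_mul, sGI_coe]
    exact hs
  rw [isoConj_symm_coe, isoConj_symm_coe, ← sGI_coe, ← Units.val_mul, ← Units.val_mul]
  congr 1
  rw [hs', map_mul, map_mul, map_inv]
  group

/-- the transport of an automorphism induced by a semisimilarity along an isometry -/
theorem SRg_psiT {β : MulAut (POmega F ⇑Q)} {g : GL ι F} {σ : RingAut F} (hβ : SRg β g σ) :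
    SRg (autCongr (psiT T hT) β) (T * g * (sGI σ T)⁻¹) σ := by
  obtain ⟨c, hc, hg, rfl⟩ := hβ
  have hg' : ∀ v, Q' (sm (T * g * (sGI σ T)⁻¹) σ v) = c * σ (Q' v) := by
    intro v
    unfold sm
    have h1 : ((T * g * (sGI σ T)⁻¹ : GL ι F) : Matrix ι ι F) *ᵥ vm σ v =
        (T : Matrix ι ι F) *ᵥ ((g : Matrix ι ι F) *ᵥ
          vm σ (((T⁻¹ : GL ι F) : Matrix ι ι F) *ᵥ v)) := by
      rw [vm_mulVec, ← sGI_coe, map_inv, Matrix.mulVec_mulVec, Matrix.mulVec_mulVec,
        ← Units.val_mul, ← Units.val_mul, mul_assoc]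
    rw [h1, hT]
    have h2 := hg (((T⁻¹ : GL ι F) : Matrix ι ι F) *ᵥ v)
    unfold sm at h2
    rw [h2, invT_spec T hT]
  exact ⟨c, hc, hg', eq_semiAut_of_induced _ _ _ hg' _
    (induced_psiT T hT g σ _ (semiAut_induced g σ c hg))⟩

end semiT

end Cfsg.Agent.Lib.Helper5.PlusField
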