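import Mathlib
import Cfsg.Prelude
import Cfsg.Agent.Lib.Helper5.PlusField.Relabel

set_option autoImplicit false
set_option linter.unusedSectionVars false
set_option linter.unusedVariables false

/-! The hyperbolic form in the coordinates of the elliptic form: relabelling and the isometry with
the form `∑ xᵢ yᵢ + z₁² + a z₁ z₂ + b z₂²` whose binary part splits. -/

namespace Cfsg.Agent.Lib.Helper5.PlusField

open QuadraticMap Module Matrix Cfsg Cfsg.Agent.Lib.Helper5.MaxTS Cfsg.Agent.Lib.Helper5.OAut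
  Cfsg.Agent.Lib.Helper5.Refl Cfsg.Agent.Lib.Helper5
open Cfsg.Agent.Lib.Helper9.AOR Cfsg.Agent.Lib.Helper9.ASP Cfsg.Agent.Lib.Helper9.AOF
open Cfsg.Agent.Lib.Helper5.SpinorHyp Cfsg.Agent.Lib.Helper5.OmegaSimple
open Cfsg.Agent.Lib.Helper5.IsomReindex Cfsg.Agent.Lib.Helper5.OrthCard
  Cfsg.Agent.Lib.Helper5.OrthPlane

section idx
variable (k : ℕ)

/-- the relabelling of the coordinates -/
def relE : (Fin k ⊕ Fin k) ⊕ Fin 2 ≃ Fin (k + 1) ⊕ Fin (k + 1) where
  toFun x := match x with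
    | Sum.inl (Sum.inl i) => Sum.inl i.castSucc
    | Sum.inl (Sum.inr i) => Sum.inr i.castSucc
    | Sum.inr z => if z = 0 then Sum.inl (Fin.last k) else Sum.inr (Fin.last k)
  invFun x := match x with
    | Sum.inl i => Fin.lastCases (Sum.inr 0) (fun i => Sum.inl (Sum.inl i)) i
    | Sum.inr i => Fin.lastCases (Sum.inr 1) (fun i => Sum.inl (Sum.inr i)) i
  left_inv x := by
    rcases x with (i | i) | z
    · simp
    · simp
    · fin_cases z <;> simp
  right_inv x := by
    rcases x with i | i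
    · induction i using Fin.lastCases with
      | last => simp
      | cast i => simp
    · induction i using Fin.lastCases with
      | last => simp
      | cast i => simp

@[simp] theorem relE_ll (i : Fin k) : relE k (Sum.inl (Sum.inl i)) = Sum.inl i.castSucc := rfl
@[simp] theorem relE_lr (i : Fin k) : relE k (Sum.inl (Sum.inr i)) = Sum.inr i.castSucc := rfl
@[simp] theorem relE_r0 : relE k (Sum.inr 0) = Sum.inl (Fin.last k) := rfl
@[simp] theorem relE_r1 : relE k (Sum.inr 1) = Sum.inr (Fin.last k) := rfl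

@[simp] theorem relE_symm_ll (i : Fin k) :
    (relE k).symm (Sum.inl i.castSucc) = Sum.inl (Sum.inl i) :=
  (Equiv.symm_apply_eq _).mpr rfl
@[simp] theorem relE_symm_lr (i : Fin k) :
    (relE k).symm (Sum.inr i.castSucc) = Sum.inl (Sum.inr i) :=
  (Equiv.symm_apply_eq _).mpr rfl
@[simp] theorem relE_symm_r0 : (relE k).symm (Sum.inl (Fin.last k)) = Sum.inr 0 :=
  (Equiv.symm_apply_eq _).mpr rfl
@[simp] theorem relE_symm_r1 : (relE k).symm (Sum.inr (Fin.last k)) = Sum.inr 1 :=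
  (Equiv.symm_apply_eq _).mpr rfl

end idx

section forms
variable {F : Type*} [Field F] (k : ℕ)

/-- the hyperbolic plane `z₀ z₁` -/
noncomputable def hypBin : QuadraticForm F (Fin 2 → F) := QuadraticMap.proj 0 1

theorem hypBin_apply (z : Fin 2 → F) : hypBin (F := F) z = z 0 * z 1 := by
  simp [hypBin]

/-- the hyperbolic form in the relabelled coordinates -/
theorem plusForm_relE (v : Fin (k + 1) ⊕ Fin (k + 1) → F) :
    plusForm (k + 1) F v = genForm (hypBin (F := F)) k (v ∘ relE k) := by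
  rw [plusForm_apply, genForm_apply, hypBin_apply]
  unfold Cfsg.quadFormPlus
  rw [Fin.sum_univ_castSucc]
  rfl

end forms

section tmat
variable {F : Type*} [Field F] (k : ℕ) (ω ω' : F)

/-- the matrix of `(x, y, z) ↦ (x, y, z₀ + ω z₁, z₀ + ω' z₁)` -/
def tMat : Matrix ((Fin k ⊕ Fin k) ⊕ Fin 2) ((Fin k ⊕ Fin k) ⊕ Fin 2) F :=
  Matrix.fromBlocks 1 0 0 !![1, ω; 1, ω']

theorem tMat_mulVec_l (v : (Fin k ⊕ Fin k) ⊕ Fin 2 → F) (i : Fin k ⊕ Fin k) :
    (tMat k ω ω' *ᵥ v) (Sum.inl i) = v (Sum.inl i) := by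
  simp [tMat, Matrix.mulVec, dotProduct, Fintype.sum_sum_type, Matrix.one_apply]

theorem tMat_mulVec_r0 (v : (Fin k ⊕ Fin k) ⊕ Fin 2 → F) :
    (tMat k ω ω' *ᵥ v) (Sum.inr 0) = v (Sum.inr 0) + ω * v (Sum.inr 1) := by
  simp [tMat, Matrix.mulVec, dotProduct, Fintype.sum_sum_type, Fin.sum_univ_two]

theorem tMat_mulVec_r1 (v : (Fin k ⊕ Fin k) ⊕ Fin 2 → F) :
    (tMat k ω ω' *ᵥ v) (Sum.inr 1) = v (Sum.inr 0) + ω' * v (Sum.inr 1) := by
  simp [tMat, Matrix.mulVec, dotProduct, Fintype.sum_sum_type, Fin.sum_univ_two]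

theorem tMat_det : (tMat k ω ω').det = ω' - ω := by
  unfold tMat
  rw [Matrix.det_fromBlocks_zero₂₁, Matrix.det_one, one_mul, Matrix.det_fin_two_of]
  ring

/-- the isometry as an invertible matrix -/
noncomputable def tGL (hne : ω ≠ ω') : GL ((Fin k ⊕ Fin k) ⊕ Fin 2) F :=
  Matrix.GeneralLinearGroup.mkOfDetNeZero (tMat k ω ω') (by
    rw [tMat_det]
    exact sub_ne_zero.mpr (Ne.symm hne))

theorem tGL_coe (hne : ω ≠ ω') :
    ((tGL k ω ω' hne : GL ((Fin k ⊕ Fin k) ⊕ Fin 2) F) :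
      Matrix ((Fin k ⊕ Fin k) ⊕ Fin 2) ((Fin k ⊕ Fin k) ⊕ Fin 2) F) = tMat k ω ω' := rfl

/-- the isometry from the form with split binary part onto the hyperbolic form -/
theorem tGL_spec (hne : ω ≠ ω') (v : (Fin k ⊕ Fin k) ⊕ Fin 2 → F) :
    genForm (hypBin (F := F)) k
      (((tGL k ω ω' hne : GL ((Fin k ⊕ Fin k) ⊕ Fin 2) F) :
        Matrix ((Fin k ⊕ Fin k) ⊕ Fin 2) ((Fin k ⊕ Fin k) ⊕ Fin 2) F) *ᵥ v) =
      genForm (binForm (ω + ω') (ω * ω')) k v := by
  rw [tGL_coe, genForm_apply, genForm_apply, hypBin_apply, binForm_apply]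
  simp only [tMat_mulVec_l, tMat_mulVec_r0, tMat_mulVec_r1]
  ring

/-- the matrix interchanging the last two coordinates -/
def swMat : Matrix ((Fin k ⊕ Fin k) ⊕ Fin 2) ((Fin k ⊕ Fin k) ⊕ Fin 2) F :=
  Matrix.fromBlocks 1 0 0 !![0, 1; 1, 0]

theorem swMat_mulVec_l (v : (Fin k ⊕ Fin k) ⊕ Fin 2 → F) (i : Fin k ⊕ Fin k) :
    (swMat (F := F) k *ᵥ v) (Sum.inl i) = v (Sum.inl i) := by
  simp [swMat, Matrix.mulVec, dotProduct, Fintype.sum_sum_type, Matrix.one_apply]

theorem swMat_mulVec_r0 (v : (Fin k ⊕ Fin k) ⊕ Fin 2 → F) :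
    (swMat (F := F) k *ᵥ v) (Sum.inr 0) = v (Sum.inr 1) := by
  simp [swMat, Matrix.mulVec, dotProduct, Fintype.sum_sum_type, Fin.sum_univ_two]

theorem swMat_mulVec_r1 (v : (Fin k ⊕ Fin k) ⊕ Fin 2 → F) :
    (swMat (F := F) k *ᵥ v) (Sum.inr 1) = v (Sum.inr 0) := by
  simp [swMat, Matrix.mulVec, dotProduct, Fintype.sum_sum_type, Fin.sum_univ_two]

theorem swMat_mul_self : swMat (F := F) k * swMat k = 1 := by
  unfold swMat
  rw [Matrix.fromBlocks_multiply]
  simp only [Matrix.one_mul, Matrix.mul_zero, Matrix.zero_mul, add_zero, zero_add]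
  have h : (!![0, 1; 1, 0] : Matrix (Fin 2) (Fin 2) F) * !![0, 1; 1, 0] = 1 := by
    ext a b
    fin_cases a <;> fin_cases b <;> simp [Matrix.mul_apply, Fin.sum_univ_two]
  rw [h, Matrix.fromBlocks_one]

/-- the interchange as an invertible matrix -/
def swGL : GL ((Fin k ⊕ Fin k) ⊕ Fin 2) F :=
  ⟨swMat k, swMat k, swMat_mul_self k, swMat_mul_self k⟩

theorem swGL_coe : ((swGL (F := F) k : GL ((Fin k ⊕ Fin k) ⊕ Fin 2) F) :
    Matrix ((Fin k ⊕ Fin k) ⊕ Fin 2) ((Fin k ⊕ Fin k) ⊕ Fin 2) F) = swMat k := rfl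

theorem swGL_mul_self : swGL (F := F) k * swGL k = 1 :=
  Units.ext (swMat_mul_self k)

theorem swGL_inv : (swGL (F := F) k)⁻¹ = swGL k :=
  inv_eq_of_mul_eq_one_left (swGL_mul_self k)

/-- the field automorphism interchanging `ω` and `ω'` turns the isometry into its product with
the interchange -/
theorem sGI_tGL (hne : ω ≠ ω') (σ : RingAut F) (h1 : σ ω = ω') (h2 : σ ω' = ω) :
    sGI σ (tGL k ω ω' hne) = swGL k * tGL k ω ω' hne := by
  apply Units.ext
  rw [sGI_coe, Units.val_mul, tGL_coe, swGL_coe]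
  unfold tMat swMat
  rw [Matrix.fromBlocks_multiply, Matrix.fromBlocks_map]
  simp only [Matrix.one_mul, Matrix.mul_zero, Matrix.zero_mul, add_zero, zero_add, Matrix.mul_one]
  congr 1
  · ext a b
    rw [Matrix.map_apply]
    by_cases hab : a = b
    · rw [hab, Matrix.one_apply_eq, map_one]
    · rw [Matrix.one_apply_ne hab, map_zero]
  · ext a b
    simp
  · ext a b
    simp
  · ext a b
    fin_cases a <;> fin_cases b <;> simp [Matrix.mul_apply, Fin.sum_univ_two, h1, h2]

end tmat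

section vstar
variable {F : Type*} [Field F] [Fintype F] (k : ℕ)

/-- the rational vector `e_m - f_m` -/
def vStar : Fin (k + 1) ⊕ Fin (k + 1) → F := fun x => match x with
  | Sum.inl i => if i = Fin.last k then 1 else 0
  | Sum.inr i => if i = Fin.last k then -1 else 0

theorem vStar_l (i : Fin (k + 1)) :
    vStar (F := F) k (Sum.inl i) = if i = Fin.last k then 1 else 0 := rfl

theorem vStar_r (i : Fin (k + 1)) :
    vStar (F := F) k (Sum.inr i) = if i = Fin.last k then -1 else 0 := rfl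

theorem plusForm_vStar : plusForm (k + 1) F (vStar k) = -1 := by
  rw [plusForm_apply]
  unfold Cfsg.quadFormPlus
  simp only [vStar_l, vStar_r]
  rw [Finset.sum_eq_single (Fin.last k)]
  · simp
  · intro b _ hb
    simp [hb]
  · intro h
    exact absurd (Finset.mem_univ _) h

theorem plusForm_vStar_ne : plusForm (k + 1) F (vStar k) ≠ 0 := by
  rw [plusForm_vStar]
  exact neg_ne_zero.mpr one_ne_zero

theorem vm_vStar (σ : RingAut F) : vm σ (vStar (F := F) k) = vStar k := by
  ext x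
  show σ (vStar k x) = vStar k x
  rcases x with i | i
  · rw [vStar_l]
    split_ifs
    · exact map_one σ
    · exact map_zero σ
  · rw [vStar_r]
    split_ifs
    · rw [map_neg, map_one]
    · exact map_zero σ

theorem polar_vStar (w : Fin (k + 1) ⊕ Fin (k + 1) → F) :
    polar (plusForm (k + 1) F) (vStar k) w = w (Sum.inr (Fin.last k)) - w (Sum.inl (Fin.last k)) := by
  rw [PlusGeom.polar_plus]
  simp only [vStar_l, vStar_r]
  rw [Finset.sum_eq_single (Fin.last k)]
  · simp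
    ring
  · intro b _ hb
    simp [hb]
  · intro h
    exact absurd (Finset.mem_univ _) h

/-- the reflection in `e_m - f_m` is the relabelled interchange -/
theorem reGL_swGL :
    reGL (relE k) (swGL (F := F) k) =
      (reflSim (k + 1) (vStar (F := F) k) (plusForm_vStar_ne k) :
        GL (Fin (k + 1) ⊕ Fin (k + 1)) F) := by
  apply Units.ext
  rw [reflSim_coe, Matrix.ext_iff_mulVec]
  intro w
  rw [reGL_mulVec, swGL_coe, reflectionMatrix_mulVec, plusForm_vStar, polar_vStar]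
  ext x
  rcases x with i | i
  · induction i using Fin.lastCases with
    | last =>
      simp only [Function.comp_apply, relE_symm_r0, swMat_mulVec_r0, relE_r1, Pi.sub_apply,
        Pi.smul_apply, vStar_l, if_true, smul_eq_mul]
      ring
    | cast i =>
      have hne : (i.castSucc : Fin (k + 1)) ≠ Fin.last k := (Fin.castSucc_lt_last i).ne
      simp only [Function.comp_apply, relE_symm_ll, swMat_mulVec_l, relE_ll, Pi.sub_apply,
        Pi.smul_apply, vStar_l, if_neg hne, smul_eq_mul]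
      ring
  · induction i using Fin.lastCases with
    | last =>
      simp only [Function.comp_apply, relE_symm_r1, swMat_mulVec_r1, relE_r0, Pi.sub_apply,
        Pi.smul_apply, vStar_r, if_true, smul_eq_mul]
      ring
    | cast i =>
      have hne : (i.castSucc : Fin (k + 1)) ≠ Fin.last k := (Fin.castSucc_lt_last i).ne
      simp only [Function.comp_apply, relE_symm_lr, swMat_mulVec_l, relE_lr, Pi.sub_apply,
        Pi.smul_apply, vStar_r, if_neg hne, smul_eq_mul]
      ring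

end vstar

section transport
variable {F : Type*} [Field F] [Fintype F] (k : ℕ) (ω ω' : F) (hne : ω ≠ ω')

/-- the transport of automorphisms from the form with split binary part to the hyperbolic
form -/
noncomputable def phiW :
    MulAut (POmega F ⇑(genForm (binForm (ω + ω') (ω * ω')) k)) ≃*
      MulAut (POmega F ⇑(plusForm (k + 1) F)) :=
  (autCongr (psiT (tGL k ω ω' hne) (tGL_spec k ω ω' hne))).trans
    (autCongr (psiRe (relE k) (plusForm_relE (F := F) k)))

theorem phiW_apply (β : MulAut (POmega F ⇑(genForm (binForm (ω + ω') (ω * ω')) k))) :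
    phiW k ω ω' hne β = autCongr (psiRe (relE k) (plusForm_relE (F := F) k))
      (autCongr (psiT (tGL k ω ω' hne) (tGL_spec k ω ω' hne)) β) := rfl

/-- the transport of similarities -/
noncomputable def simW :
    ↥(Geo.quadSimilarityGroup (F := F) ⇑(genForm (binForm (ω + ω') (ω * ω')) k)) →*
      ↥(Geo.quadSimilarityGroup (F := F) ⇑(plusForm (k + 1) F)) :=
  (simRe (relE k) (plusForm_relE (F := F) k)).toMonoidHom.comp
    (simT (tGL k ω ω' hne) (tGL_spec k ω ω' hne))

theorem simW_coe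
    (g : ↥(Geo.quadSimilarityGroup (F := F) ⇑(genForm (binForm (ω + ω') (ω * ω')) k))) :
    ((simW k ω ω' hne g : ↥(Geo.quadSimilarityGroup (F := F) ⇑(plusForm (k + 1) F))) :
      GL (Fin (k + 1) ⊕ Fin (k + 1)) F) =
      reGL (relE k) (tGL k ω ω' hne * (g : GL ((Fin k ⊕ Fin k) ⊕ Fin 2) F) *
        (tGL k ω ω' hne)⁻¹) := rfl

theorem phiW_conjGO
    (g : ↥(Geo.quadSimilarityGroup (F := F) ⇑(genForm (binForm (ω + ω') (ω * ω')) k))) :
    phiW k ω ω' hne (conjGO _ g) = conjGO (plusForm (k + 1) F) (simW k ω ω' hne g) := by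
  rw [phiW_apply, autCongr_psiT_conjGO, autCongr_psiRe_conjGO]
  rfl

theorem simW_surjective : Function.Surjective (simW k ω ω' hne) := by
  intro G
  obtain ⟨G₂, hG₂⟩ := (simRe (relE k) (plusForm_relE (F := F) k)).surjective G
  refine ⟨simT (tGL k ω ω' hne)⁻¹ (invT_spec (tGL k ω ω' hne) (tGL_spec k ω ω' hne)) G₂, ?_⟩
  rw [← hG₂]
  apply Subtype.ext
  rw [simW_coe, simRe_coe, simT_coe]
  congr 1
  group

theorem phiW_inn : (Inn (POmega F ⇑(genForm (binForm (ω + ω') (ω * ω')) k))).map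
    (phiW k ω ω' hne : MulAut (POmega F ⇑(genForm (binForm (ω + ω') (ω * ω')) k)) →*
      MulAut (POmega F ⇑(plusForm (k + 1) F))) = Inn (POmega F ⇑(plusForm (k + 1) F)) := by
  have h1 := map_autCongr_inn (psiT (tGL k ω ω' hne) (tGL_spec k ω ω' hne))
  have h2 := map_autCongr_inn (psiRe (relE k) (plusForm_relE (F := F) k))
  apply le_antisymm
  · rintro _ ⟨β₀, hβ₀, rfl⟩
    have h3 : autCongr (psiT (tGL k ω ω' hne) (tGL_spec k ω ω' hne)) β₀ ∈
        Inn (POmega F ⇑(genForm (hypBin (F := F)) k)) := by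
      rw [← h1]
      exact ⟨β₀, hβ₀, rfl⟩
    have h4 : autCongr (psiRe (relE k) (plusForm_relE (F := F) k))
        (autCongr (psiT (tGL k ω ω' hne) (tGL_spec k ω ω' hne)) β₀) ∈
        Inn (POmega F ⇑(plusForm (k + 1) F)) := by
      rw [← h2]
      exact ⟨_, h3, rfl⟩
    exact h4
  · intro β hβ
    rw [← h2] at hβ
    obtain ⟨β₂, hβ₂, rfl⟩ := hβ
    rw [← h1] at hβ₂
    obtain ⟨β₃, hβ₃, rfl⟩ := hβ₂
    exact ⟨β₃, hβ₃, rfl⟩

/-- the transport of the standard field automorphism is the standard graph-field automorphism -/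
theorem phiW_fO (σ : RingAut F) (h1 : σ ω = ω') (h2 : σ ω' = ω)
    (hσa : σ (ω + ω') = ω + ω') (hσb : σ (ω * ω') = ω * ω') :
    phiW k ω ω' hne (fO σ (minus_vm (ω + ω') (ω * ω') k σ hσa hσb)) =
      gfStd (k + 1) σ (vStar k) (plusForm_vStar_ne k) := by
  have hS := SRg_psiRe (relE k) (plusForm_relE (F := F) k)
    (SRg_psiT (tGL k ω ω' hne) (tGL_spec k ω ω' hne)
      (SRg_fO σ (minus_vm (ω + ω') (ω * ω') k σ hσa hσb)))
  have e : tGL k ω ω' hne * 1 * (sGI σ (tGL k ω ω' hne))⁻¹ = swGL k := by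
    rw [sGI_tGL k ω ω' hne σ h1 h2, mul_one, _root_.mul_inv_rev, mul_inv_cancel_left, swGL_inv]
  rw [e, reGL_swGL] at hS
  exact SRg_unique_left (plusForm_v1 (F := F) (k + 1) 0) hS (SRg_gfStd (k + 1) σ _ _)

end transport

end Cfsg.Agent.Lib.Helper5.PlusField
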