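import Mathlib
import Cfsg.Prelude
import Cfsg.Agent.Lib.Helper5.PlusField.Worlds

set_option autoImplicit false
set_option linter.unusedSectionVars false
set_option linter.unusedVariables false

/-! The centraliser of the standard involutory graph-field automorphism of `PΩ⁺` in the
inner-diagonal group. -/

namespace Cfsg.Agent.Lib.Helper5.PlusField

open QuadraticMap Module Matrix Cfsg Cfsg.Agent.Lib.Helper5.MaxTS Cfsg.Agent.Lib.Helper5.OAut
  Cfsg.Agent.Lib.Helper5.Refl Cfsg.Agent.Lib.Helper5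
open Cfsg.Agent.Lib.Helper9.AOR Cfsg.Agent.Lib.Helper9.ASP Cfsg.Agent.Lib.Helper9.AOF
open Cfsg.Agent.Lib.Helper5.SpinorHyp Cfsg.Agent.Lib.Helper5.OmegaSimple
open Cfsg.Agent.Lib.Helper5.IsomReindex Cfsg.Agent.Lib.Helper5.OrthCard
  Cfsg.Agent.Lib.Helper5.OrthPlane Cfsg.Agent.Lib.Helper5.SpinorHyp2 Cfsg.Agent.S0294

section omega
variable {F : Type*} [Field F] [Fintype F] {F₀ : Type*} [Field F₀]

/-- a generator of the quadratic extension and its conjugate -/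
theorem exists_omega (σ : RingAut F) (hord : orderOf σ = 2) (j : F₀ →+* F)
    (hι : ∀ a : F, σ a = a ↔ a ∈ Set.range j) :
    ∃ (ω ω' : F) (a₀ b₀ : F₀), ω ≠ ω' ∧ σ ω = ω' ∧ σ ω' = ω ∧ j a₀ = ω + ω' ∧
      j b₀ = ω * ω' ∧
      ∀ z₁ z₂ : F₀, z₁ ^ 2 + a₀ * z₁ * z₂ + b₀ * z₂ ^ 2 = 0 → z₁ = 0 ∧ z₂ = 0 := by
  have hσ2 : σ * σ = 1 := by
    rw [← pow_two, ← hord]
    exact pow_orderOf_eq_one σ
  have hσ1 : σ ≠ 1 := by
    intro h
    rw [h, orderOf_one] at hord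
    omega
  obtain ⟨ω, hω⟩ : ∃ ω : F, σ ω ≠ ω := by
    by_contra hcon
    push_neg at hcon
    apply hσ1
    apply RingEquiv.ext
    intro a
    exact hcon a
  have hσσ : ∀ a : F, σ (σ a) = a := by
    intro a
    have := congrArg (fun τ : RingAut F => τ a) hσ2
    exact this
  obtain ⟨a₀, ha₀⟩ := (hι (ω + σ ω)).mp (by rw [map_add, hσσ, add_comm])
  obtain ⟨b₀, hb₀⟩ := (hι (ω * σ ω)).mp (by rw [map_mul, hσσ, mul_comm])
  refine ⟨ω, σ ω, a₀, b₀, fun h => hω h.symm, rfl, hσσ ω, ha₀, hb₀, ?_⟩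
  intro z₁ z₂ h
  have h1 : (j z₁ + ω * j z₂) * (j z₁ + σ ω * j z₂) = 0 := by
    have h2 := congrArg j h
    rw [map_add, map_add, map_pow, map_mul, map_mul, map_mul, map_pow, ha₀, hb₀, map_zero] at h2
    linear_combination h2
  have hz₂ : z₂ = 0 := by
    by_contra hz
    have hjz : j z₂ ≠ 0 := (map_ne_zero j).mpr hz
    rcases mul_eq_zero.mp h1 with h3 | h3
    · apply hω
      have h4 : ω = j (-z₁ / z₂) := by
        rw [map_div₀, map_neg]
        field_simp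
        linear_combination h3
      rw [h4]
      exact (hι _).mpr ⟨_, rfl⟩
    · apply hω
      have h4 : σ ω = j (-z₁ / z₂) := by
        rw [map_div₀, map_neg]
        field_simp
        linear_combination h3
      have h5 : σ (σ ω) = σ ω := by
        rw [h4]
        exact (hι _).mpr ⟨_, rfl⟩
      rw [hσσ] at h5
      exact h5.symm
  subst hz₂
  refine ⟨?_, rfl⟩
  have h2 : z₁ ^ 2 = 0 := by
    rw [← h]
    ring
  exact pow_eq_zero_iff (by norm_num) |>.mp h2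

end omega

section core
variable {F : Type*} [Field F] [Fintype F] (k : ℕ) (ω ω' : F) (hne : ω ≠ ω')

theorem Pdet_simW {w₁ : Fin (k + 1) ⊕ Fin (k + 1) → F} (hw₁ : plusForm (k + 1) F w₁ = 1)
    {w₃ : (Fin k ⊕ Fin k) ⊕ Fin 2 → F}
    (hw₃ : genForm (binForm (ω + ω') (ω * ω')) k w₃ = 1) (n : ℕ)
    (g : ↥(Geo.quadSimilarityGroup (F := F) ⇑(genForm (binForm (ω + ω') (ω * ω')) k))) :
    Pdet (plusForm (k + 1) F) w₁ n
      ((simW k ω ω' hne g : ↥(Geo.quadSimilarityGroup (F := F) ⇑(plusForm (k + 1) F))) :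
        GL (Fin (k + 1) ⊕ Fin (k + 1)) F) ↔
      Pdet (genForm (binForm (ω + ω') (ω * ω')) k) w₃ n
        (g : GL ((Fin k ⊕ Fin k) ⊕ Fin 2) F) := by
  have h1 := Pdet_simT (n := n) (w₀ := w₃) (tGL k ω ω' hne) (tGL_spec k ω ω' hne) g
  have h2 := Pdet_reGL (relE k) (plusForm_relE (F := F) k)
    (((tGL k ω ω' hne : GL ((Fin k ⊕ Fin k) ⊕ Fin 2) F) :
      Matrix ((Fin k ⊕ Fin k) ⊕ Fin 2) ((Fin k ⊕ Fin k) ⊕ Fin 2) F) *ᵥ w₃) n
    ((simT (tGL k ω ω' hne) (tGL_spec k ω ω' hne) g :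
      ↥(Geo.quadSimilarityGroup (F := F) ⇑(genForm (hypBin (F := F)) k))) :
        GL ((Fin k ⊕ Fin k) ⊕ Fin 2) F)
  have h3 : plusForm (k + 1) F
      ((((tGL k ω ω' hne : GL ((Fin k ⊕ Fin k) ⊕ Fin 2) F) :
        Matrix ((Fin k ⊕ Fin k) ⊕ Fin 2) ((Fin k ⊕ Fin k) ⊕ Fin 2) F) *ᵥ w₃) ∘
          (relE k).symm) = 1 := by
    rw [plusForm_relE, Function.comp_assoc, Equiv.symm_comp_self, Function.comp_id, tGL_spec,
      hw₃]
  rw [← h1, ← h2]
  exact Pdet_indep hw₁ h3 n (simW k ω ω' hne g).2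

end core

section epsdet
variable {F : Type*} [Field F] [Fintype F] (m : ℕ)

theorem card_plus_index : Fintype.card (Fin m ⊕ Fin m) = 2 * m := by
  rw [Fintype.card_sum, Fintype.card_fin]
  ring

/-- in odd characteristic the class character is the determinant ratio -/
theorem eps_eq_one_iff_Pdet (h2 : (2 : F) ≠ 0) {w₁ : Fin m ⊕ Fin m → F}
    (hw₁ : plusForm m F w₁ = 1)
    (G : ↥(Geo.quadSimilarityGroup (F := F) ⇑(plusForm m F))) :
    eps m G = 1 ↔ Pdet (plusForm m F) w₁ m (G : GL (Fin m ⊕ Fin m) F) := by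
  rw [eps_eq_one_iff_psc]
  exact plus_crit m h2 hw₁ (card_plus_index m) G G.2

end epsdet

section core2
variable {F : Type*} [Field F] [Fintype F] (k : ℕ) (ω ω' : F) (hne : ω ≠ ω')

/-- in odd characteristic the transport carries the determinant-ratio class onto the
inner-diagonal group -/
theorem map_phiW_Dcls_Pdet (h2 : (2 : F) ≠ 0) {w₃ : (Fin k ⊕ Fin k) ⊕ Fin 2 → F}
    (hw₃ : genForm (binForm (ω + ω') (ω * ω')) k w₃ = 1)
    (hP : IsCls (genForm (binForm (ω + ω') (ω * ω')) k)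
      (Pdet (genForm (binForm (ω + ω') (ω * ω')) k) w₃ (k + 1))) :
    (Dcls hP).map (phiW k ω ω' hne :
      MulAut (POmega F ⇑(genForm (binForm (ω + ω') (ω * ω')) k)) →*
        MulAut (POmega F ⇑(plusForm (k + 1) F))) = dPlus (k + 1) := by
  have hw₁ := plusForm_v1 (F := F) (k + 1) 0
  ext β
  rw [mem_dPlus_iff]
  constructor
  · rintro ⟨_, ⟨g, hg, rfl⟩, rfl⟩
    refine ⟨simW k ω ω' hne g, ?_, (phiW_conjGO k ω ω' hne g).symm⟩
    rw [eps_eq_one_iff_Pdet (k + 1) h2 hw₁, Pdet_simW k ω ω' hne hw₁ hw₃]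
    exact hg
  · rintro ⟨G, hG, rfl⟩
    obtain ⟨g, rfl⟩ := simW_surjective k ω ω' hne G
    rw [eps_eq_one_iff_Pdet (k + 1) h2 hw₁, Pdet_simW k ω ω' hne hw₁ hw₃] at hG
    exact ⟨conjGO _ g, ⟨g, hG, rfl⟩, phiW_conjGO k ω ω' hne g⟩

variable {F₀ : Type*} [Field F₀] [Fintype F₀]

/-- **the centraliser of the standard graph-field automorphism**, given a class predicate on the
form with split binary part which the transport carries onto the inner-diagonal group -/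
theorem gf_cent_core (hk : 3 ≤ k) (j : F₀ →+* F) (σ : RingAut F) (hord : orderOf σ = 2)
    (hι : ∀ a : F, σ a = a ↔ a ∈ Set.range j) (h1 : σ ω = ω') (h2 : σ ω' = ω) (a₀ b₀ : F₀)
    (ha₀ : j a₀ = ω + ω') (hb₀ : j b₀ = ω * ω')
    (hab₀ : ∀ z₁ z₂ : F₀, z₁ ^ 2 + a₀ * z₁ * z₂ + b₀ * z₂ ^ 2 = 0 → z₁ = 0 ∧ z₂ = 0)
    {P : GL ((Fin k ⊕ Fin k) ⊕ Fin 2) F → Prop}
    (hP : IsCls (genForm (binForm (ω + ω') (ω * ω')) k) P)
    (hmap : (Dcls hP).map (phiW k ω ω' hne :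
      MulAut (POmega F ⇑(genForm (binForm (ω + ω') (ω * ω')) k)) →*
        MulAut (POmega F ⇑(plusForm (k + 1) F))) = dPlus (k + 1))
    (hcompat : ∀ h₀ : GL ((Fin k ⊕ Fin k) ⊕ Fin 2) F₀,
      h₀ ∈ Geo.quadSimilarityGroup (F := F₀) ⇑(genForm (binForm a₀ b₀) k) →
      (PMi a₀ b₀ k h₀ ↔ P (Matrix.GeneralLinearGroup.map j h₀))) :
    Nonempty (↥(dPlus (k + 1) ⊓
      Subgroup.centralizer {gfStd (k + 1) σ (vStar (F := F) k) (plusForm_vStar_ne k)}) ≃*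
        ↥(Dcls (isCls_PMi' hk hab₀))) := by
  have hσa : σ (ω + ω') = ω + ω' := by rw [map_add, h1, h2, add_comm]
  have hσb : σ (ω * ω') = ω * ω' := by rw [map_mul, h1, h2, mul_comm]
  have han₀ := anisotropic_of a₀ b₀ hab₀
  have hD : (ω + ω') * (ω + ω') - 4 * (ω * ω') ≠ 0 := by
    have : (ω + ω') * (ω + ω') - 4 * (ω * ω') = (ω - ω') * (ω - ω') := by ring
    rw [this]
    exact mul_ne_zero (sub_ne_zero.mpr hne) (sub_ne_zero.mpr hne)
  have hQ := genForm_nondegenerate _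
    (Cfsg.Agent.Lib.Helper5.OAut.binForm_nondegenerate' (ω + ω') (ω * ω') hD) k
  have hQ₀ := genForm_nondegenerate _ (binForm_nondegenerate a₀ b₀ han₀) k
  have hfam := genForm_hypFamily (binForm (ω + ω') (ω * ω')) (le_refl k)
  have hfam₀ := genForm_hypFamily (binForm a₀ b₀) (le_refl k)
  have h5 : 5 ≤ Fintype.card ((Fin k ⊕ Fin k) ⊕ Fin 2) := by rw [card_minus_index]; omega
  haveI : Nonempty ((Fin k ⊕ Fin k) ⊕ Fin 2) := ⟨Sum.inr 0⟩
  have hbc := minus_hm j a₀ b₀ k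
  rw [ha₀, hb₀] at hbc
  obtain ⟨E⟩ := exists_cent_fO_equiv_cls j (genForm (binForm a₀ b₀) k) hQ hfam hk h5
    (quad_xvec (ω + ω') (ω * ω') k) hQ₀ hfam₀ hk (quad_xvec a₀ b₀ k) hbc σ
    (minus_vm (ω + ω') (ω * ω') k σ hσa hσb) 2 (by norm_num) hord hι hP
    (isCls_PMi' hk hab₀) hcompat
  have e1 := phiW_fO k ω ω' hne σ h1 h2 hσa hσb
  exact ⟨((centMapEquiv (phiW k ω ω' hne) (Dcls hP)
    (fO σ (minus_vm (ω + ω') (ω * ω') k σ hσa hσb))).trans
      (MulEquiv.subgroupCongr (by rw [hmap, e1]))).symm.trans E⟩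

end core2

end Cfsg.Agent.Lib.Helper5.PlusField
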