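import Mathlib
import Cfsg.Prelude
import Cfsg.Agent.Lib.Helper5.PlusField.GFCent
import Cfsg.Agent.S0789

set_option autoImplicit false
set_option linter.unusedSectionVars false
set_option linter.unusedVariables false

/-! Characteristic two: the inner-diagonal group of `PΩ⁺` is the group of inner automorphisms, and
the class predicate of similarities is compatible with extension of scalars. -/

namespace Cfsg.Agent.Lib.Helper5.PlusField

open QuadraticMap Module Matrix Cfsg Cfsg.Agent.Lib.Helper5.MaxTS Cfsg.Agent.Lib.Helper5.OAut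
  Cfsg.Agent.Lib.Helper5.Refl Cfsg.Agent.Lib.Helper5
open Cfsg.Agent.Lib.Helper9.AOR Cfsg.Agent.Lib.Helper9.ASP Cfsg.Agent.Lib.Helper9.AOF
open Cfsg.Agent.Lib.Helper5.SpinorHyp Cfsg.Agent.Lib.Helper5.OmegaSimple
open Cfsg.Agent.Lib.Helper5.IsomReindex Cfsg.Agent.Lib.Helper5.OrthCard
  Cfsg.Agent.Lib.Helper5.OrthPlane Cfsg.Agent.Lib.Helper5.SpinorHyp2 Cfsg.Agent.S0294
  Cfsg.Agent.Lib.Helper5.Dickson Cfsg.Agent.Lib.Helper5.SpinorNorm

section two
variable {ι : Type} [Fintype ι] [DecidableEq ι] {F : Type*} [Field F] [Fintype F]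
  {Q : QuadraticForm F (ι → F)}

theorem two_eq_zero_of_char (hchar : ringChar F = 2) : (2 : F) = 0 := by
  haveI : CharP F 2 := ringChar.of_eq hchar
  exact CharP.cast_eq_zero F 2

/-- in characteristic two, the class predicate can be read off from any decomposition into a
scalar and an isometry -/
theorem P2_of_decomp (hchar : ringChar F = 2) (hQ : (polarBilin Q).Nondegenerate)
    (hex : Fintype.card ι = 4 → ∃ a : F, a ≠ 0 ∧ a ≠ 1) {w₀ : ι → F} (hw₀ : Q w₀ = 1)
    (g : GL ι F) (d : Fˣ) (s : ↥(isometryGroup F ⇑Q)) (hg : g = scU d * (s : GL ι F))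
    (vs : List (ι → F)) (hvs : IsRep Q s vs) : P2 hQ hex g ↔ Even vs.length := by
  have h2 := two_eq_zero_of_char hchar
  constructor
  · rintro ⟨d', s', hg', hs'⟩
    have e1 : (s' : GL ι F) = scU (d'⁻¹ * d) * (s : GL ι F) := by
      rw [scU_mul, scU_inv, mul_assoc, ← hg, hg', inv_mul_cancel_left]
    have hc : ((d'⁻¹ * d : Fˣ) : F) * ((d'⁻¹ * d : Fˣ) : F) = 1 := by
      have h3 := (mem_isometryGroup_iff Q _).mp s'.2
        ((((s : GL ι F)⁻¹ : GL ι F) : Matrix ι ι F) *ᵥ w₀)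
      have h4 := (mem_isometryGroup_iff Q _).mp ((isometryGroup F ⇑Q).inv_mem s.2) w₀
      rw [e1, Units.val_mul, scU_coe, Matrix.smul_mul, Matrix.one_mul, Matrix.smul_mulVec,
        Matrix.mulVec_mulVec, ← Units.val_mul, mul_inv_cancel, Units.val_one, Matrix.one_mulVec,
        QuadraticMap.map_smul, h4, hw₀, smul_eq_mul, mul_one] at h3
      exact h3
    have hc1 : ((d'⁻¹ * d : Fˣ) : F) = 1 := by
      have h5 : (((d'⁻¹ * d : Fˣ) : F) - 1) * (((d'⁻¹ * d : Fˣ) : F) - 1) = 0 := by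
        have : (((d'⁻¹ * d : Fˣ) : F) - 1) * (((d'⁻¹ * d : Fˣ) : F) - 1) =
            ((d'⁻¹ * d : Fˣ) : F) * ((d'⁻¹ * d : Fˣ) : F) - 2 * ((d'⁻¹ * d : Fˣ) : F) + 1 := by
          ring
        rw [this, hc, h2]
        ring_nf
        exact h2
      have h6 := mul_self_eq_zero.mp h5
      exact sub_eq_zero.mp h6
    have hss : s' = s := by
      apply Subtype.ext
      have hu : (d'⁻¹ * d : Fˣ) = 1 := Units.ext (by rw [hc1, Units.val_one])
      rw [e1, hu, scU_one, one_mul]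
    rw [hss, par_eq Q hQ hex s vs hvs, neg_one_pow_eq_one_iff] at hs'
    exact hs'
  · intro hev
    refine ⟨d, s, hg, ?_⟩
    rw [par_eq Q hQ hex s vs hvs, neg_one_pow_eq_one_iff]
    exact hev

end two

section dtwo
variable {F : Type*} [Field F] [Fintype F] (m : ℕ)

theorem hex_plus (hm : 3 ≤ m) :
    Fintype.card (Fin m ⊕ Fin m) = 4 → ∃ a : F, a ≠ 0 ∧ a ≠ 1 := by
  intro h
  rw [card_plus_index] at h
  omega

/-- isometries in the commutator subgroup preserve the two classes -/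
theorem eps_inclO_of_mem_commutator (s : ↥(isometryGroup F ⇑(plusForm m F)))
    (hs : s ∈ commutator ↥(isometryGroup F ⇑(plusForm m F))) :
    eps m (inclO (plusForm m F) s) = 1 := by
  have h1 := Abelianization.commutator_subset_ker ((eps (F := F) m).comp (inclO (plusForm m F)))
  exact (MonoidHom.mem_ker).1 (h1 hs)

/-- in characteristic two an isometry preserves the two classes exactly when its Dickson
invariant is trivial -/
theorem eps_inclO_eq_one_iff (hchar : ringChar F = 2) (hm : 3 ≤ m)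
    (s : ↥(isometryGroup F ⇑(plusForm m F))) :
    eps m (inclO (plusForm m F) s) = 1 ↔
      par (plusForm m F) (PlusGeom.plus_nondegenerate (F := F) m) (hex_plus m hm) s = 1 := by
  obtain ⟨i₀⟩ : Nonempty (Fin m) := ⟨⟨0, by omega⟩⟩
  haveI : Nonempty (Fin m ⊕ Fin m) := ⟨Sum.inl i₀⟩
  have hQ := PlusGeom.plus_nondegenerate (F := F) m
  have hker := Cfsg.Agent.S0789.ker_par (plusForm m F) hchar hQ (hex_plus m hm)
  have hback : ∀ s' : ↥(isometryGroup F ⇑(plusForm m F)),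
      par (plusForm m F) hQ (hex_plus m hm) s' = 1 → eps m (inclO (plusForm m F) s') = 1 := by
    intro s' hs'
    apply eps_inclO_of_mem_commutator
    rw [← hker]
    exact hs'
  constructor
  · intro h
    by_contra hcon
    have hneg : par (plusForm m F) hQ (hex_plus m hm) s = -1 := by
      rcases Int.units_eq_one_or (par (plusForm m F) hQ (hex_plus m hm) s) with h1 | h1
      · exact absurd h1 hcon
      · exact h1
    have hv1 : plusForm m F (v1 m i₀) ≠ 0 := by
      rw [plusForm_v1]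
      exact one_ne_zero
    have h3 := hback (reflection (plusForm m F) (v1 m i₀) hv1 * s) (by
      rw [map_mul, par_reflection, hneg]
      decide)
    rw [map_mul, map_mul, h, mul_one] at h3
    have h4 := eps_reflection m (v1 m i₀) hv1
      (inclO (plusForm m F) (reflection (plusForm m F) (v1 m i₀) hv1))
      (reflection_coe (plusForm m F) (v1 m i₀) hv1)
    rw [h3] at h4
    exact ofAdd_one_ne_one h4.symm
  · exact hback s

/-- **in characteristic two the inner-diagonal group is the group of inner automorphisms** -/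
theorem dPlus_eq_inn_two (hchar : ringChar F = 2) (hm : 3 ≤ m) :
    dPlus (F := F) m = Inn (POmega F ⇑(plusForm m F)) := by
  obtain ⟨i₀⟩ : Nonempty (Fin m) := ⟨⟨0, by omega⟩⟩
  haveI : Nonempty (Fin m ⊕ Fin m) := ⟨Sum.inl i₀⟩
  have hQ := PlusGeom.plus_nondegenerate (F := F) m
  have hfam := Cfsg.Agent.S2613.plus_hypFamily (F := F) (le_refl m)
  have h5 : 5 ≤ Fintype.card (Fin m ⊕ Fin m) := by
    rw [card_plus_index]; omega
  have hw₁ := plusForm_v1 (F := F) m i₀
  ext β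
  rw [mem_dPlus_iff]
  constructor
  · rintro ⟨G, hG, rfl⟩
    rw [← P2_iff_inn hchar hQ (hex_plus m hm) hfam hm h5 hw₁ G]
    obtain ⟨d, s, hds⟩ := exists_decomp2 hchar hw₁ (G : GL (Fin m ⊕ Fin m) F) G.2
    refine ⟨d, s, hds, ?_⟩
    rw [← eps_inclO_eq_one_iff m hchar hm]
    have e : G = ⟨scU d, scU_mem_sim d⟩ * inclO (plusForm m F) s := Subtype.ext hds
    rw [e, map_mul, eps_scalar m _ d rfl, one_mul] at hG
    exact hG
  · intro hβ
    rw [inn_eq] at hβ
    obtain ⟨s, hs, rfl⟩ := hβ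
    refine ⟨inclO (plusForm m F) s, eps_inclO_of_mem_commutator m s hs, ?_⟩
    rw [← conjGO_comp_inclO]
    rfl

end dtwo

section dcls2
variable {ι : Type} [Fintype ι] [DecidableEq ι] {F : Type*} [Field F] [Fintype F]
  {Q : QuadraticForm F (ι → F)} {i : ℕ} {α β : Fin i → ι}

/-- in characteristic two the class of the predicate `P2` is the group of inner automorphisms -/
theorem Dcls_P2_eq_inn [Nonempty ι] (hchar : ringChar F = 2) (hQ : (polarBilin Q).Nondegenerate)
    (hex : Fintype.card ι = 4 → ∃ a : F, a ≠ 0 ∧ a ≠ 1) (hfam : IsHypFamily Q α β)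
    (hi : 3 ≤ i) (h5 : 5 ≤ Fintype.card ι) {w₀ : ι → F} (hw₀ : Q w₀ = 1) :
    Dcls (isCls_P2 hchar hQ hex hw₀) = Inn (POmega F ⇑Q) := by
  ext γ
  constructor
  · rintro ⟨g, hg, rfl⟩
    exact (P2_iff_inn hchar hQ hex hfam hi h5 hw₀ g).mp hg
  · intro hγ
    rw [inn_eq] at hγ
    obtain ⟨s, hs, rfl⟩ := hγ
    have e : conjO Q s = conjGO Q (inclO Q s) := by
      rw [← conjGO_comp_inclO]
      rfl
    rw [e]
    refine ⟨inclO Q s, ?_, rfl⟩
    apply (P2_iff_inn hchar hQ hex hfam hi h5 hw₀ (inclO Q s)).mpr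
    rw [← e, inn_eq]
    exact ⟨s, hs, rfl⟩

end dcls2

section cent
variable {F : Type*} [Field F] [Fintype F] {F₀ : Type*} [Field F₀] [Fintype F₀] (k : ℕ)

/-- **the centraliser of the standard involutory graph-field automorphism in the inner-diagonal
group** is isomorphic to the inner-diagonal group of the elliptic group over the fixed field -/
theorem gf_cent (hk : 3 ≤ k) (j : F₀ →+* F) (σ : RingAut F) (hord : orderOf σ = 2)
    (hι : ∀ a : F, σ a = a ↔ a ∈ Set.range j) :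
    ∃ (a₀ b₀ : F₀)
      (hab₀ : ∀ z₁ z₂ : F₀, z₁ ^ 2 + a₀ * z₁ * z₂ + b₀ * z₂ ^ 2 = 0 → z₁ = 0 ∧ z₂ = 0),
      Nonempty (↥(dPlus (k + 1) ⊓
        Subgroup.centralizer {gfStd (k + 1) σ (vStar (F := F) k) (plusForm_vStar_ne k)}) ≃*
          ↥(Dcls (isCls_PMi' hk hab₀))) := by
  obtain ⟨ω, ω', a₀, b₀, hne, h1, h2, ha₀, hb₀, hab₀⟩ := exists_omega σ hord j hι
  refine ⟨a₀, b₀, hab₀, ?_⟩
  have han₀ := anisotropic_of a₀ b₀ hab₀
  have hD : (ω + ω') * (ω + ω') - 4 * (ω * ω') ≠ 0 := by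
    have : (ω + ω') * (ω + ω') - 4 * (ω * ω') = (ω - ω') * (ω - ω') := by ring
    rw [this]
    exact mul_ne_zero (sub_ne_zero.mpr hne) (sub_ne_zero.mpr hne)
  have hQ := genForm_nondegenerate _
    (Cfsg.Agent.Lib.Helper5.OAut.binForm_nondegenerate' (ω + ω') (ω * ω') hD) k
  have hQ₀ := genForm_nondegenerate _ (binForm_nondegenerate a₀ b₀ han₀) k
  have hfam := genForm_hypFamily (binForm (ω + ω') (ω * ω')) (le_refl k)
  have h5 : 5 ≤ Fintype.card ((Fin k ⊕ Fin k) ⊕ Fin 2) := by rw [card_minus_index]; omega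
  haveI : Nonempty ((Fin k ⊕ Fin k) ⊕ Fin 2) := ⟨Sum.inr 0⟩
  have hbc := minus_hm j a₀ b₀ k
  rw [ha₀, hb₀] at hbc
  have hw₃ := quad_xvec (ω + ω') (ω * ω') k
  have hx : hm j (xvec (F := F₀) k) = xvec k := by
    unfold xvec
    exact hm_single _ _
  by_cases h2F : (2 : F) = 0
  · -- characteristic two
    have hchar := ringChar_two_of h2F
    have h2₀ : (2 : F₀) = 0 := by
      apply j.injective
      rw [map_ofNat, map_zero]
      exact h2F
    have hP := isCls_P2 hchar hQ (hex_minus k (by omega)) hw₃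
    have hmap : (Dcls hP).map (phiW k ω ω' hne :
        MulAut (POmega F ⇑(genForm (binForm (ω + ω') (ω * ω')) k)) →*
          MulAut (POmega F ⇑(plusForm (k + 1) F))) = dPlus (k + 1) := by
      rw [Dcls_P2_eq_inn hchar hQ (hex_minus k (by omega)) hfam hk h5 hw₃, phiW_inn,
        dPlus_eq_inn_two (k + 1) hchar (by omega)]
    apply gf_cent_core k ω ω' hne hk j σ hord hι h1 h2 a₀ b₀ ha₀ hb₀ hab₀ hP hmap
    intro k₀ hk₀
    obtain ⟨d₀, s₀, hd₀⟩ := exists_decomp2 (ringChar_two_of h2₀) (quad_xvec a₀ b₀ k) k₀ hk₀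
    obtain ⟨vs₀, hvs₀⟩ := exists_rep' _ hQ₀ (hex_minus k (by omega)) s₀
    rw [pscm_of_decomp hab₀ k₀ d₀ s₀ hd₀ vs₀ hvs₀]
    have hne' : ∀ v ∈ vs₀.map (hm j), genForm (binForm (ω + ω') (ω * ω')) k v ≠ 0 := by
      intro v hv
      obtain ⟨v₀, hv₀, rfl⟩ := List.mem_map.mp hv
      rw [hbc]
      exact (map_ne_zero j).mpr (hvs₀.1 v₀ hv₀)
    obtain ⟨s, hs⟩ : ∃ s : ↥(isometryGroup F ⇑(genForm (binForm (ω + ω') (ω * ω')) k)),
        s = ((vs₀.map (hm j)).map (reflE (genForm (binForm (ω + ω') (ω * ω')) k))).prod :=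
      ⟨_, rfl⟩
    have hrep : IsRep (genForm (binForm (ω + ω') (ω * ω')) k) s (vs₀.map (hm j)) := by
      refine ⟨hne', ?_⟩
      rw [hs]
      exact coe_prod_reflE (genForm (binForm (ω + ω') (ω * ω')) k) _ hne'
    have hsmat : ((s : GL ((Fin k ⊕ Fin k) ⊕ Fin 2) F) :
        Matrix ((Fin k ⊕ Fin k) ⊕ Fin 2) ((Fin k ⊕ Fin k) ⊕ Fin 2) F) =
        ((s₀ : GL ((Fin k ⊕ Fin k) ⊕ Fin 2) F₀) :
          Matrix ((Fin k ⊕ Fin k) ⊕ Fin 2) ((Fin k ⊕ Fin k) ⊕ Fin 2) F₀).map j := by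
      rw [hrep.2, rprod_hm j (genForm (binForm a₀ b₀) k) hbc, ← hvs₀.2]
    have hjd : j (d₀ : F₀) ≠ 0 := (map_ne_zero j).mpr d₀.ne_zero
    have hdec : Matrix.GeneralLinearGroup.map j k₀ = scU (Units.mk0 (j (d₀ : F₀)) hjd) *
        (s : GL ((Fin k ⊕ Fin k) ⊕ Fin 2) F) := by
      apply Units.ext
      rw [glmapI_coe, hd₀, Units.val_mul, Units.val_mul, scU_coe, scU_coe, Matrix.smul_mul,
        Matrix.one_mul, Matrix.smul_mul, Matrix.one_mul, hsmat]
      ext x y
      rw [Matrix.map_apply, Matrix.smul_apply, Matrix.smul_apply, Matrix.map_apply, smul_eq_mul,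
        smul_eq_mul, map_mul]
      rfl
    rw [P2_of_decomp hchar hQ (hex_minus k (by omega)) hw₃ _ _ s hdec _ hrep, List.length_map]
  · -- odd characteristic
    have h2₀ : (2 : F₀) ≠ 0 := by
      intro h
      apply h2F
      have := congrArg j h
      rwa [map_ofNat, map_zero] at this
    have hP := isCls_Pdet h2F hQ hw₃ (card_minus_index k)
    have hmap := map_phiW_Dcls_Pdet k ω ω' hne h2F hw₃ hP
    apply gf_cent_core k ω ω' hne hk j σ hord hι h1 h2 a₀ b₀ ha₀ hb₀ hab₀ hP hmap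
    intro k₀ hk₀
    rw [pscm_iff_Pdet h2₀ hab₀ (quad_xvec a₀ b₀ k) k₀ hk₀, ← hx]
    exact (Pdet_glmap j _ hbc _ k₀).symm

end cent

end Cfsg.Agent.Lib.Helper5.PlusField
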