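import Mathlib
import Cfsg.Prelude
import Cfsg.Agent.Lib.Helper5.PlusField.Inndiag
import Cfsg.Agent.Lib.Helper5.OAut.InndiagPlusMain
import Cfsg.Agent.S0293

set_option autoImplicit false
set_option linter.unusedSectionVars false
set_option linter.unusedVariables false

/-! The index of the inner automorphisms in the inner-diagonal group of `PΩ⁺` over a field whose
order is a square. -/

namespace Cfsg.Agent.Lib.Helper5.PlusField

open QuadraticMap Module Matrix Cfsg Cfsg.Agent.Lib.Helper5.MaxTS Cfsg.Agent.Lib.Helper5.OAut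
  Cfsg.Agent.Lib.Helper5.Refl Cfsg.Agent.Lib.Helper5 Cfsg.Agent.Lib.Helper5.SpinorDiag

section idx
variable {F : Type*} [Field F] [Fintype F] (m : ℕ)

theorem relIndex_of_surjective_ker {G A : Type*} [Group G] [Group A] (D K : Subgroup G)
    (φ : ↥D →* A) (hφ : Function.Surjective φ) (hker : φ.ker = K.subgroupOf D) :
    K.relIndex D = Nat.card A := by
  unfold Subgroup.relIndex
  rw [← hker, Subgroup.index_ker, MonoidHom.range_eq_top.mpr hφ]
  exact Nat.card_congr (Equiv.Set.univ A)

/-- `-1` lies in `Ω⁺` when the order of the field is a square -/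
theorem negOne_mem_of_sq (q₀ : ℕ) (hF : Fintype.card F = q₀ ^ 2) (h2 : (2 : F) ≠ 0)
    (hm : 1 ≤ m) : negOne (plusForm m F) ∈ Omega F ⇑(plusForm m F) := by
  have hodd : Odd (Fintype.card F) := by
    have h : ringChar F ≠ 2 := by
      intro hc
      have : CharP F 2 := ringChar.of_eq hc
      exact h2 CharTwo.two_eq_zero
    exact Nat.odd_iff.mpr (FiniteField.odd_card_of_char_ne_two h)
  rw [Cfsg.Agent.S0293.negOne_mem_iff rfl hodd m hm, hF]
  rw [hF] at hodd
  have hq₀ : q₀ % 2 = 1 := by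
    rcases Nat.even_or_odd q₀ with h | h
    · exfalso
      have := (Nat.even_pow.mpr ⟨h, by norm_num⟩ : Even (q₀ ^ 2))
      exact (Nat.not_even_iff_odd.mpr hodd) this
    · exact Nat.odd_iff.mp h
  have h4 : q₀ ^ 2 % 4 = 1 := by
    obtain ⟨t, ht⟩ : ∃ t, q₀ = 2 * t + 1 := ⟨q₀ / 2, by omega⟩
    rw [ht]
    have : (2 * t + 1) ^ 2 = 4 * (t * (t + 1)) + 1 := by ring
    rw [this]
    omega
  rw [Nat.pow_mod, h4, one_pow]
  norm_num

/-- **the inner-diagonal group has index four over the inner automorphisms** when the order of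
the field is an odd square -/
theorem relIndex_inn_dPlus_four (q₀ : ℕ) (hF : Fintype.card F = q₀ ^ 2) (h2 : (2 : F) ≠ 0)
    (hm : 3 ≤ m) :
    (Inn (POmega F ⇑(plusForm m F))).relIndex (dPlus m) = 4 := by
  have hneg := negOne_mem_of_sq m q₀ hF h2 (by omega)
  obtain ⟨-, hoddm, hevenm⟩ := exists_inndiag_plus (F := F) m h2 hm
  rw [← inndiagGen_eq_dPlus]
  rcases Nat.even_or_odd m with hme | hmo
  · obtain ⟨φ, hφ, hker⟩ := hevenm hneg hme
    rw [relIndex_of_surjective_ker _ _ φ hφ hker]
    simp [Nat.card_eq_fintype_card]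
  · obtain ⟨φ, hφ, hker⟩ := hoddm hneg hmo
    rw [relIndex_of_surjective_ker _ _ φ hφ hker]
    simp [Nat.card_eq_fintype_card]

end idx

end Cfsg.Agent.Lib.Helper5.PlusField
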