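import Mathlib
import Cfsg.Prelude
import Cfsg.Agent.Lib.Helper5.PlusField.GFCentTwo
import Cfsg.Agent.Lib.Helper5.PlusField.GFSplit
import Cfsg.Agent.Lib.Helper5.PlusField.GFArith
import Cfsg.Agent.Lib.Helper5.PlusField.GFIndex
import Cfsg.Agent.Lib.Helper5.PlusLevi

set_option autoImplicit false
set_option linter.unusedSectionVars false
set_option linter.unusedVariables false

/-! The number of classes into which the class of an involutory graph-field automorphism of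
`PΩ⁺` splits (odd characteristic). -/

namespace Cfsg.Agent.Lib.Helper5.PlusField

open QuadraticMap Module Matrix Cfsg Cfsg.Agent.Lib.Helper5.MaxTS Cfsg.Agent.Lib.Helper5.OAut
  Cfsg.Agent.Lib.Helper5.Refl Cfsg.Agent.Lib.Helper5
open Cfsg.Agent.Lib.Helper9.AOR Cfsg.Agent.Lib.Helper9.ASP Cfsg.Agent.Lib.Helper9.AOF
open Cfsg.Agent.Lib.Helper5.SpinorHyp Cfsg.Agent.Lib.Helper5.OmegaSimple
open Cfsg.Agent.Lib.Helper5.IsomReindex Cfsg.Agent.Lib.Helper5.OrthCard
  Cfsg.Agent.Lib.Helper5.OrthPlane Cfsg.Agent.Lib.Helper5.SpinorHyp2 Cfsg.Agent.S0294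
  Cfsg.Agent.Lib.Helper5.Dickson Cfsg.Agent.Lib.Helper5.SpinorNorm
open Cfsg.Agent.Lib.Helper9.APSL (mem_cent_single)

section rationalinner
variable {ι : Type} [Fintype ι] [DecidableEq ι] {F : Type*} [Field F] [Fintype F]
  {Q : QuadraticForm F (ι → F)} {F₀ : Type*} [Field F₀] [Fintype F₀] (j : F₀ →+* F)
  (Q₀ : QuadraticForm F₀ (ι → F₀))

/-- **a rational similarity of determinant ratio one whose multiplier is a square of the
subfield induces an inner automorphism**, when every element of the subfield is a square -/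
theorem conjGO_glmap_mem_inn (h2 : (2 : F) ≠ 0) (hQ : (polarBilin Q).Nondegenerate)
    (hQ₀ : (polarBilin Q₀).Nondegenerate) {n : ℕ} (hcard : Fintype.card ι = 2 * n)
    (hn : 1 ≤ n) {w₀' : ι → F₀} (hw₀' : Q₀ w₀' = 1) (hbc : ∀ v₀, Q (hm j v₀) = j (Q₀ v₀))
    (hsqF : ∀ t : F₀, IsSquare (j t)) (h₀ : GL ι F₀)
    (hh₀ : h₀ ∈ Geo.quadSimilarityGroup (F := F₀) ⇑Q₀) (hP : Pdet Q₀ w₀' n h₀)
    (hsq : IsSquare (Cfsg.Agent.Lib.Helper5.OAut.mult Q₀ w₀' h₀))
    (G : ↥(Geo.quadSimilarityGroup (F := F) ⇑Q))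
    (hG : (G : GL ι F) = Matrix.GeneralLinearGroup.map j h₀) :
    conjGO Q G ∈ Inn (POmega F ⇑Q) := by
  have h2₀ : (2 : F₀) ≠ 0 := by
    intro h
    apply h2
    have := congrArg j h
    rwa [map_ofNat, map_zero] at this
  have hcardι : 2 ≤ Fintype.card ι := by omega
  have hP₀ := isCls_Pdet h2₀ hQ₀ hw₀' hcard
  obtain ⟨d₀, s₀, hds⟩ := exists_decomp_sq hw₀' h₀ hh₀ hsq
  have hsm : (s₀ : GL ι F₀) ∈ Geo.quadSimilarityGroup (F := F₀) ⇑Q₀ :=
    isometryGroup_le_sim Q₀ s₀.2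
  have hsP : Pdet Q₀ w₀' n (s₀ : GL ι F₀) := by
    have e : (s₀ : GL ι F₀) = (scU d₀)⁻¹ * h₀ := by
      rw [hds, inv_mul_cancel_left]
    rw [e]
    exact hP₀.mul _ _ (Subgroup.inv_mem _ (scU_mem_sim d₀)) hh₀
      (hP₀.inv _ (scU_mem_sim d₀) (hP₀.scal d₀)) hP
  have hsdet : ((s₀ : GL ι F₀) : Matrix ι ι F₀).det = 1 := by
    have h3 := hsP
    unfold Pdet detRatio at h3
    rw [mult_of_isometry hw₀' s₀.2, inv_one, one_pow, mul_one] at h3
    exact h3
  obtain ⟨vs, hvs⟩ := exists_rep Q₀ h2₀ hQ₀ s₀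
  have heven : Even vs.length := by
    have h3 := rprod_det Q₀ vs hvs.1
    rw [← hvs.2] at h3
    have h4 : (-1 : F₀) ^ vs.length = 1 := by rw [← h3]; exact hsdet
    by_contra hodd
    rw [Nat.not_even_iff_odd] at hodd
    rw [hodd.neg_one_pow] at h4
    apply h2₀
    linear_combination -h4
  have hne' : ∀ v ∈ vs.map (hm j), Q v ≠ 0 := by
    intro v hv
    obtain ⟨v₀, hv₀, rfl⟩ := List.mem_map.mp hv
    rw [hbc]
    exact (map_ne_zero j).mpr (hvs.1 v₀ hv₀)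
  obtain ⟨s, hs⟩ : ∃ s : ↥(isometryGroup F ⇑Q),
      s = ((vs.map (hm j)).map (reflE Q)).prod := ⟨_, rfl⟩
  have hrep : IsRep Q s (vs.map (hm j)) := by
    refine ⟨hne', ?_⟩
    rw [hs]
    exact coe_prod_reflE Q _ hne'
  have hsmat : ((s : GL ι F) : Matrix ι ι F) = ((s₀ : GL ι F₀) : Matrix ι ι F₀).map j := by
    rw [hrep.2, rprod_hm j Q₀ hbc, ← hvs.2]
  have hjd : j (d₀ : F₀) ≠ 0 := (map_ne_zero j).mpr d₀.ne_zero
  have hdec : (G : GL ι F) = scU (Units.mk0 (j (d₀ : F₀)) hjd) * (s : GL ι F) := by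
    apply Units.ext
    rw [hG, glmapI_coe, hds, Units.val_mul, Units.val_mul, scU_coe, scU_coe, Matrix.smul_mul,
      Matrix.one_mul, Matrix.smul_mul, Matrix.one_mul, hsmat]
    ext x y
    rw [Matrix.map_apply, Matrix.smul_apply, Matrix.smul_apply, Matrix.map_apply, smul_eq_mul,
      smul_eq_mul, map_mul]
    rfl
  have hsΩ : s ∈ Omega F ⇑Q := by
    show s ∈ commutator ↥(isometryGroup F ⇑Q)
    rw [mem_commutator_iff Q h2 hQ hcardι s _ hrep]
    refine ⟨by rw [List.length_map]; exact heven, ?_⟩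
    rw [prodQ_hm j Q₀ hbc]
    exact hsqF _
  have e : G = ⟨scU (Units.mk0 (j (d₀ : F₀)) hjd), scU_mem_sim _⟩ * inclO Q s :=
    Subtype.ext hdec
  have h7 : conjGO Q ⟨scU (Units.mk0 (j (d₀ : F₀)) hjd), scU_mem_sim _⟩ = 1 :=
    mem_ker_conjGO_of_scalar _ (j (d₀ : F₀)) rfl
  rw [e, map_mul, h7, one_mul, inn_eq]
  refine ⟨s, hsΩ, ?_⟩
  rw [← conjGO_comp_inclO]
  rfl

end rationalinner

section twist
variable {F : Type*} [Field F] [Fintype F] (k : ℕ) (ω ω' : F) (hne : ω ≠ ω')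

theorem mult_simW {w₁ : Fin (k + 1) ⊕ Fin (k + 1) → F} (hw₁ : plusForm (k + 1) F w₁ = 1)
    {w₃ : (Fin k ⊕ Fin k) ⊕ Fin 2 → F}
    (hw₃ : genForm (binForm (ω + ω') (ω * ω')) k w₃ = 1)
    (g : ↥(Geo.quadSimilarityGroup (F := F) ⇑(genForm (binForm (ω + ω') (ω * ω')) k))) :
    Cfsg.Agent.Lib.Helper5.OAut.mult (plusForm (k + 1) F) w₁
      ((simW k ω ω' hne g : ↥(Geo.quadSimilarityGroup (F := F) ⇑(plusForm (k + 1) F))) :
        GL (Fin (k + 1) ⊕ Fin (k + 1)) F) =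
      Cfsg.Agent.Lib.Helper5.OAut.mult (genForm (binForm (ω + ω') (ω * ω')) k) w₃
        (g : GL ((Fin k ⊕ Fin k) ⊕ Fin 2) F) := by
  have h3 : plusForm (k + 1) F
      ((((tGL k ω ω' hne : GL ((Fin k ⊕ Fin k) ⊕ Fin 2) F) :
        Matrix ((Fin k ⊕ Fin k) ⊕ Fin 2) ((Fin k ⊕ Fin k) ⊕ Fin 2) F) *ᵥ w₃) ∘
          (relE k).symm) = 1 := by
    rw [plusForm_relE, Function.comp_assoc, Equiv.symm_comp_self, Function.comp_id, tGL_spec,
      hw₃]
  rw [mult_indep hw₁ h3 (simW k ω ω' hne g).2, simW_coe,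
    mult_reGL (relE k) (plusForm_relE (F := F) k)]
  unfold Cfsg.Agent.Lib.Helper5.OAut.mult
  rw [Matrix.mulVec_mulVec, ← Units.val_mul, inv_mul_cancel_right, Units.val_mul,
    ← Matrix.mulVec_mulVec, tGL_spec]

/-- the preimage of a similarity under the transport -/
noncomputable def simWinv (G : ↥(Geo.quadSimilarityGroup (F := F) ⇑(plusForm (k + 1) F))) :
    ↥(Geo.quadSimilarityGroup (F := F) ⇑(genForm (binForm (ω + ω') (ω * ω')) k)) :=
  simT (tGL k ω ω' hne)⁻¹ (invT_spec (tGL k ω ω' hne) (tGL_spec k ω ω' hne))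
    ((simRe (relE k) (plusForm_relE (F := F) k)).symm G)

theorem simWinv_coe (G : ↥(Geo.quadSimilarityGroup (F := F) ⇑(plusForm (k + 1) F))) :
    ((simWinv k ω ω' hne G :
      ↥(Geo.quadSimilarityGroup (F := F) ⇑(genForm (binForm (ω + ω') (ω * ω')) k))) :
        GL ((Fin k ⊕ Fin k) ⊕ Fin 2) F) =
      (tGL k ω ω' hne)⁻¹ * (reGL (relE k)).symm (G : GL (Fin (k + 1) ⊕ Fin (k + 1)) F) *
        (tGL k ω ω' hne)⁻¹⁻¹ := rfl

theorem simW_simWinv (G : ↥(Geo.quadSimilarityGroup (F := F) ⇑(plusForm (k + 1) F))) :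
    simW k ω ω' hne (simWinv k ω ω' hne G) = G := by
  apply Subtype.ext
  rw [simW_coe, simWinv_coe]
  have e : tGL k ω ω' hne * ((tGL k ω ω' hne)⁻¹ *
      (reGL (relE k)).symm (G : GL (Fin (k + 1) ⊕ Fin (k + 1)) F) * (tGL k ω ω' hne)⁻¹⁻¹) *
      (tGL k ω ω' hne)⁻¹ = (reGL (relE k)).symm (G : GL (Fin (k + 1) ⊕ Fin (k + 1)) F) := by
    group
  rw [e, MulEquiv.apply_symm_apply]

/-- a similarity which is rational for the twisted action has a rational preimage -/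
theorem sGI_simWinv (σ : RingAut F) (h1 : σ ω = ω') (h2 : σ ω' = ω)
    (G : ↥(Geo.quadSimilarityGroup (F := F) ⇑(plusForm (k + 1) F)))
    (htw : swGL k * sGI σ ((reGL (relE k)).symm (G : GL (Fin (k + 1) ⊕ Fin (k + 1)) F)) *
      swGL k = (reGL (relE k)).symm (G : GL (Fin (k + 1) ⊕ Fin (k + 1)) F)) :
    sGI σ ((simWinv k ω ω' hne G :
      ↥(Geo.quadSimilarityGroup (F := F) ⇑(genForm (binForm (ω + ω') (ω * ω')) k))) :
        GL ((Fin k ⊕ Fin k) ⊕ Fin 2) F) = simWinv k ω ω' hne G := by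
  rw [simWinv_coe, map_mul, map_mul, map_inv, map_inv, map_inv, sGI_tGL k ω ω' hne σ h1 h2]
  have e : (swGL k * tGL k ω ω' hne)⁻¹ *
      sGI σ ((reGL (relE k)).symm (G : GL (Fin (k + 1) ⊕ Fin (k + 1)) F)) *
      (swGL k * tGL k ω ω' hne)⁻¹⁻¹ =
      (tGL k ω ω' hne)⁻¹ * ((swGL k)⁻¹ *
        sGI σ ((reGL (relE k)).symm (G : GL (Fin (k + 1) ⊕ Fin (k + 1)) F)) * swGL k) *
        (tGL k ω ω' hne)⁻¹⁻¹ := by group
  rw [e, swGL_inv, htw]

end twist

section decisive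
variable {F : Type*} [Field F] [Fintype F] (k : ℕ) (c lam lam' : F)

/-- the diagonal of the decisive Levi element -/
def aDiag : Fin (k + 1) → F := fun i => if i = Fin.last k then lam / c else c

/-- the inverse diagonal -/
def aDiag' : Fin (k + 1) → F := fun i => if i = Fin.last k then c / lam else c⁻¹

theorem aDiag_mul (hc0 : c ≠ 0) (hlam0 : lam ≠ 0) (i : Fin (k + 1)) :
    aDiag k c lam i * aDiag' k c lam i = 1 := by
  unfold aDiag aDiag'
  split_ifs
  · field_simp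
  · exact mul_inv_cancel₀ hc0

/-- the decisive diagonal matrix as an invertible matrix -/
noncomputable def aGL (hc0 : c ≠ 0) (hlam0 : lam ≠ 0) : GL (Fin (k + 1)) F :=
  ⟨Matrix.diagonal (aDiag k c lam), Matrix.diagonal (aDiag' k c lam), by
    rw [Matrix.diagonal_mul_diagonal]
    have : (fun i => aDiag k c lam i * aDiag' k c lam i) = fun _ => (1 : F) :=
      funext (aDiag_mul k c lam hc0 hlam0)
    rw [this, Matrix.diagonal_one], by
    rw [Matrix.diagonal_mul_diagonal]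
    have : (fun i => aDiag' k c lam i * aDiag k c lam i) = fun _ => (1 : F) :=
      funext (fun i => by rw [mul_comm]; exact aDiag_mul k c lam hc0 hlam0 i)
    rw [this, Matrix.diagonal_one]⟩

theorem aGL_det (hc0 : c ≠ 0) (hlam0 : lam ≠ 0) :
    ((aGL k c lam hc0 hlam0 : GL (Fin (k + 1)) F) : Matrix (Fin (k + 1)) (Fin (k + 1)) F).det =
      c ^ k * (lam / c) := by
  show (Matrix.diagonal (aDiag k c lam)).det = _
  rw [Matrix.det_diagonal, Fin.prod_univ_castSucc]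
  have h1 : ∀ i : Fin k, aDiag k c lam i.castSucc = c := by
    intro i
    unfold aDiag
    rw [if_neg (Fin.castSucc_lt_last i).ne]
  have h2 : aDiag k c lam (Fin.last k) = lam / c := by
    unfold aDiag
    rw [if_pos rfl]
  simp only [h1, h2, Finset.prod_const, Finset.card_univ, Fintype.card_fin]

/-- the diagonal of the decisive similarity -/
def dStar : Fin (k + 1) ⊕ Fin (k + 1) → F := fun x => match x with
  | Sum.inl i => if i = Fin.last k then lam else c * c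
  | Sum.inr i => if i = Fin.last k then lam' else 1

/-- the decisive similarity `diag(μ,…,μ,λ; 1,…,1,λ')` with `μ = c² = λλ'` -/
noncomputable def kStar (hc0 : c ≠ 0) (hlam0 : lam ≠ 0) :
    ↥(Geo.quadSimilarityGroup (F := F) ⇑(plusForm (k + 1) F)) :=
  ⟨scU (Units.mk0 c hc0), scU_mem_sim _⟩ *
    inclO (plusForm (k + 1) F) (PlusLevi.levi (aGL k c lam hc0 hlam0))

theorem kStar_coe (hc0 : c ≠ 0) (hlam0 : lam ≠ 0) (hmul : lam * lam' = c * c) :
    ((kStar k c lam hc0 hlam0 : GL (Fin (k + 1) ⊕ Fin (k + 1)) F) :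
      Matrix (Fin (k + 1) ⊕ Fin (k + 1)) (Fin (k + 1) ⊕ Fin (k + 1)) F) =
      Matrix.diagonal (dStar k c lam lam') := by
  have e0 : (kStar k c lam hc0 hlam0 : GL (Fin (k + 1) ⊕ Fin (k + 1)) F) =
      scU (Units.mk0 c hc0) * ((PlusLevi.levi (aGL k c lam hc0 hlam0) :
        ↥(isometryGroup F ⇑(plusForm (k + 1) F))) : GL (Fin (k + 1) ⊕ Fin (k + 1)) F) := rfl
  rw [e0]
  rw [Units.val_mul, scU_coe, PlusLevi.levi_coe, Matrix.smul_mul, Matrix.one_mul,
    ← Matrix.coe_units_inv]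
  show (c : F) • Matrix.fromBlocks (Matrix.diagonal (aDiag k c lam)) 0 0
    (Matrix.diagonal (aDiag' k c lam))ᵀ = _
  rw [Matrix.diagonal_transpose, Matrix.fromBlocks_diagonal, ← Matrix.diagonal_smul]
  congr 1
  ext x
  rcases x with i | i
  · show c * aDiag k c lam i = dStar k c lam lam' (Sum.inl i)
    unfold aDiag dStar
    simp only
    split_ifs
    · field_simp
    · rfl
  · show c * aDiag' k c lam i = dStar k c lam lam' (Sum.inr i)
    unfold aDiag' dStar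
    simp only
    split_ifs
    · field_simp
      linear_combination -hmul
    · exact mul_inv_cancel₀ hc0

end decisive

section decisive2
variable {F : Type*} [Field F] [Fintype F] (k : ℕ) (c lam lam' : F)

theorem swMat_conj_diagonal (d : (Fin k ⊕ Fin k) ⊕ Fin 2 → F) :
    swMat (F := F) k * Matrix.diagonal d * swMat (F := F) k =
      (Matrix.diagonal (fun x => match x with
        | Sum.inl i => d (Sum.inl i)
        | Sum.inr z => if z = 0 then d (Sum.inr 1) else d (Sum.inr 0)) :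
        Matrix ((Fin k ⊕ Fin k) ⊕ Fin 2) ((Fin k ⊕ Fin k) ⊕ Fin 2) F) := by
  rw [Matrix.ext_iff_mulVec]
  intro w
  rw [← Matrix.mulVec_mulVec, ← Matrix.mulVec_mulVec]
  ext x
  rcases x with i | z
  · rw [swMat_mulVec_l, Matrix.mulVec_diagonal, swMat_mulVec_l, Matrix.mulVec_diagonal]
  · fin_cases z
    · show (swMat k *ᵥ (Matrix.diagonal d *ᵥ (swMat k *ᵥ w))) (Sum.inr 0) = _
      rw [swMat_mulVec_r0, Matrix.mulVec_diagonal, swMat_mulVec_r1, Matrix.mulVec_diagonal]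
      simp
    · show (swMat k *ᵥ (Matrix.diagonal d *ᵥ (swMat k *ᵥ w))) (Sum.inr 1) = _
      rw [swMat_mulVec_r1, Matrix.mulVec_diagonal, swMat_mulVec_r0, Matrix.mulVec_diagonal]
      simp

/-- the decisive similarity is rational for the twisted action -/
theorem kStar_twist (hc0 : c ≠ 0) (hlam0 : lam ≠ 0) (hmul : lam * lam' = c * c)
    (σ : RingAut F) (hσc : σ (c * c) = c * c) (hσl : σ lam = lam') (hσl' : σ lam' = lam) :
    swGL k * sGI σ ((reGL (relE k)).symm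
      (kStar k c lam hc0 hlam0 : GL (Fin (k + 1) ⊕ Fin (k + 1)) F)) * swGL k =
      (reGL (relE k)).symm (kStar k c lam hc0 hlam0 : GL (Fin (k + 1) ⊕ Fin (k + 1)) F) := by
  apply Units.ext
  rw [Units.val_mul, Units.val_mul, sGI_coe, swGL_coe, reGL_symm_coe, kStar_coe k c lam lam' hc0
    hlam0 hmul, Matrix.reindex_apply, Equiv.symm_symm, Matrix.submatrix_diagonal_equiv,
    Matrix.diagonal_map (map_zero σ), swMat_conj_diagonal]
  congr 1
  ext x
  rcases x with (i | i) | z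
  · show σ (dStar k c lam lam' (relE k (Sum.inl (Sum.inl i)))) =
      dStar k c lam lam' (relE k (Sum.inl (Sum.inl i)))
    rw [relE_ll]
    unfold dStar
    simp only [if_neg (Fin.castSucc_lt_last i).ne]
    exact hσc
  · show σ (dStar k c lam lam' (relE k (Sum.inl (Sum.inr i)))) =
      dStar k c lam lam' (relE k (Sum.inl (Sum.inr i)))
    rw [relE_lr]
    unfold dStar
    simp only [if_neg (Fin.castSucc_lt_last i).ne]
    exact map_one σ
  · fin_cases z
    · show (if (0 : Fin 2) = 0 then σ (dStar k c lam lam' (relE k (Sum.inr 1)))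
        else σ (dStar k c lam lam' (relE k (Sum.inr 0)))) =
        dStar k c lam lam' (relE k (Sum.inr 0))
      rw [if_pos rfl, relE_r1, relE_r0]
      unfold dStar
      simp only [if_pos]
      exact hσl'
    · show (if (1 : Fin 2) = 0 then σ (dStar k c lam lam' (relE k (Sum.inr 1)))
        else σ (dStar k c lam lam' (relE k (Sum.inr 0)))) =
        dStar k c lam lam' (relE k (Sum.inr 1))
      rw [if_neg (by decide), relE_r1, relE_r0]
      unfold dStar
      simp only [if_pos]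
      exact hσl

theorem levi_det (A : GL (Fin (k + 1)) F) :
    (((PlusLevi.levi A : ↥(isometryGroup F ⇑(plusForm (k + 1) F))) :
      GL (Fin (k + 1) ⊕ Fin (k + 1)) F) :
        Matrix (Fin (k + 1) ⊕ Fin (k + 1)) (Fin (k + 1) ⊕ Fin (k + 1)) F).det = 1 := by
  rw [PlusLevi.levi_coe, Matrix.det_fromBlocks_zero₂₁, Matrix.det_transpose,
    ← Matrix.coe_units_inv, ← Matrix.det_mul, ← Units.val_mul, mul_inv_cancel, Units.val_one,
    Matrix.det_one]

theorem eps_kStar (h2 : (2 : F) ≠ 0) (hc0 : c ≠ 0) (hlam0 : lam ≠ 0) :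
    eps (k + 1) (kStar k c lam hc0 hlam0) = 1 := by
  have hw₁ := plusForm_v1 (F := F) (k + 1) 0
  unfold kStar
  rw [map_mul, eps_scalar (k + 1) _ (Units.mk0 c hc0) rfl, one_mul,
    eps_eq_one_iff_Pdet (k + 1) h2 hw₁]
  unfold Pdet detRatio
  rw [inclO_coe, levi_det, mult_of_isometry hw₁ (PlusLevi.levi (aGL k c lam hc0 hlam0)).2,
    inv_one, one_pow, mul_one]

theorem mult_kStar (hc0 : c ≠ 0) (hlam0 : lam ≠ 0) {w₁ : Fin (k + 1) ⊕ Fin (k + 1) → F}
    (hw₁ : plusForm (k + 1) F w₁ = 1) :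
    Cfsg.Agent.Lib.Helper5.OAut.mult (plusForm (k + 1) F) w₁
      (kStar k c lam hc0 hlam0 : GL (Fin (k + 1) ⊕ Fin (k + 1)) F) = c * c := by
  have e0 : (kStar k c lam hc0 hlam0 : GL (Fin (k + 1) ⊕ Fin (k + 1)) F) =
      scU (Units.mk0 c hc0) * ((PlusLevi.levi (aGL k c lam hc0 hlam0) :
        ↥(isometryGroup F ⇑(plusForm (k + 1) F))) : GL (Fin (k + 1) ⊕ Fin (k + 1)) F) := rfl
  rw [e0, mult_mul hw₁ (scU_mem_sim _),
    mult_of_isometry hw₁ (PlusLevi.levi (aGL k c lam hc0 hlam0)).2, mul_one]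
  unfold Cfsg.Agent.Lib.Helper5.OAut.mult
  rw [scU_coe, Matrix.smul_mulVec, Matrix.one_mulVec, QuadraticMap.map_smul, hw₁, smul_eq_mul,
    mul_one]
  rfl

end decisive2

section final
variable {F : Type*} [Field F] [Fintype F] (k : ℕ)

open Cfsg.Agent.Lib.Helper5.SpinorDiag in
/-- the decisive similarity induces an inner automorphism exactly when the determinant of its
Levi part is a square -/
theorem conjGO_kStar_mem_inn_iff (hk : 3 ≤ k)
    (hneg : negOne (plusForm (k + 1) F) ∈ Omega F ⇑(plusForm (k + 1) F)) (c lam : F)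
    (hc0 : c ≠ 0) (hlam0 : lam ≠ 0) :
    conjGO (plusForm (k + 1) F) (kStar k c lam hc0 hlam0) ∈
      Inn (POmega F ⇑(plusForm (k + 1) F)) ↔ IsSquare (c ^ k * (lam / c)) := by
  have hQ := PlusGeom.plus_nondegenerate (F := F) (k + 1)
  have hfam := Cfsg.Agent.S2613.plus_hypFamily (F := F) (le_refl (k + 1))
  have h5 : 5 ≤ Fintype.card (Fin (k + 1) ⊕ Fin (k + 1)) := by
    rw [card_plus_index]; omega
  have h7 : conjGO (plusForm (k + 1) F) ⟨scU (Units.mk0 c hc0), scU_mem_sim _⟩ = 1 :=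
    mem_ker_conjGO_of_scalar _ c rfl
  have e : conjGO (plusForm (k + 1) F) (kStar k c lam hc0 hlam0) =
      conjO (plusForm (k + 1) F) (PlusLevi.levi (aGL k c lam hc0 hlam0)) := by
    unfold kStar
    rw [map_mul, h7, one_mul, ← conjGO_comp_inclO]
    rfl
  rw [e, ← aGL_det k c lam hc0 hlam0,
    ← PlusLevi.levi_mem_iff (by omega) (Or.inr (by omega)) (aGL k c lam hc0 hlam0)]
  constructor
  · intro h
    exact mem_Omega_of_conjO_mem_inn hQ hfam (by omega) h5 hneg _ h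
  · intro h
    rw [inn_eq]
    exact ⟨_, h, rfl⟩

variable {F₀ : Type*} [Field F₀] [Fintype F₀]

set_option maxHeartbeats 1600000 in
/-- **the class of the standard involutory graph-field automorphism splits into four classes
when `m` is odd and `q₀ ≡ 1 (mod 4)`, and into two classes otherwise** (odd characteristic) -/
theorem gf_split_odd (h2 : (2 : F) ≠ 0) (hk : 3 ≤ k) (q₀ : ℕ) (hF₀ : Fintype.card F₀ = q₀)
    (hF : Fintype.card F = q₀ ^ 2) (j : F₀ →+* F) (σ : RingAut F) (hord : orderOf σ = 2)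
    (hι : ∀ a : F, σ a = a ↔ a ∈ Set.range j) (hσpow : ∀ x : F, σ x = x ^ q₀) :
    ((Even k ∧ q₀ % 4 = 1) →
      splitClassCount (dPlus (k + 1)) (Inn (POmega F ⇑(plusForm (k + 1) F)))
        (gfStd (k + 1) σ (vStar (F := F) k) (plusForm_vStar_ne k)) = 4) ∧
    (¬ (Even k ∧ q₀ % 4 = 1) →
      splitClassCount (dPlus (k + 1)) (Inn (POmega F ⇑(plusForm (k + 1) F)))
        (gfStd (k + 1) σ (vStar (F := F) k) (plusForm_vStar_ne k)) = 2) := by
  obtain ⟨ω, ω', a₀, b₀, hne, h1, h2', ha₀, hb₀, hab₀⟩ := exists_omega σ hord j hι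
  have hσa : σ (ω + ω') = ω + ω' := by rw [map_add, h1, h2', add_comm]
  have hσb : σ (ω * ω') = ω * ω' := by rw [map_mul, h1, h2', mul_comm]
  have han₀ := anisotropic_of a₀ b₀ hab₀
  have hD : (ω + ω') * (ω + ω') - 4 * (ω * ω') ≠ 0 := by
    have : (ω + ω') * (ω + ω') - 4 * (ω * ω') = (ω - ω') * (ω - ω') := by ring
    rw [this]
    exact mul_ne_zero (sub_ne_zero.mpr hne) (sub_ne_zero.mpr hne)
  have hQ := genForm_nondegenerate _
    (Cfsg.Agent.Lib.Helper5.OAut.binForm_nondegenerate' (ω + ω') (ω * ω') hD) k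
  have hQ₀ := genForm_nondegenerate _ (binForm_nondegenerate a₀ b₀ han₀) k
  have hfam := genForm_hypFamily (binForm (ω + ω') (ω * ω')) (le_refl k)
  have h5 : 5 ≤ Fintype.card ((Fin k ⊕ Fin k) ⊕ Fin 2) := by rw [card_minus_index]; omega
  haveI : Nonempty ((Fin k ⊕ Fin k) ⊕ Fin 2) := ⟨Sum.inr 0⟩
  have hbc := minus_hm j a₀ b₀ k
  rw [ha₀, hb₀] at hbc
  have hw₃ := quad_xvec (ω + ω') (ω * ω') k
  have hw₀' := quad_xvec a₀ b₀ k
  have hw₁ := plusForm_v1 (F := F) (k + 1) 0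
  have hx : hm j (xvec (F := F₀) k) = xvec k := by
    unfold xvec
    exact hm_single _ _
  have h2₀ : (2 : F₀) ≠ 0 := by
    intro h
    apply h2
    have := congrArg j h
    rwa [map_ofNat, map_zero] at this
  have hP := isCls_Pdet h2 hQ hw₃ (card_minus_index k)
  have hP₀ := isCls_Pdet h2₀ hQ₀ hw₀' (card_minus_index k)
  have hmap := map_phiW_Dcls_Pdet k ω ω' hne h2 hw₃ hP
  have e1 := phiW_fO k ω ω' hne σ h1 h2' hσa hσb
  have hinn := phiW_inn k ω ω' hne
  have hsqF : ∀ t : F₀, IsSquare (j t) :=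
    isSquare_map_of_card_sq j h2 (by rw [hF, hF₀])
  have hσσ : ∀ a : F, σ (σ a) = a := by
    intro a
    have hσ2 : σ * σ = 1 := by
      rw [← pow_two, ← hord]
      exact pow_orderOf_eq_one σ
    have := congrArg (fun τ : RingAut F => τ a) hσ2
    exact this
  -- the decisive element
  obtain ⟨lam, hlam0, hlam⟩ := exists_nonsquare (F := F) h2
  obtain ⟨μ₀, hμ⟩ : ∃ μ₀ : F₀, j μ₀ = lam * σ lam :=
    (hι _).mp (by rw [map_mul, hσσ, mul_comm])
  have hμ₀ : ¬ IsSquare μ₀ :=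
    not_isSquare_norm j q₀ hF₀ hF h2 lam hlam μ₀ (by rw [hμ, hσpow])
  have hμ0 : μ₀ ≠ 0 := by
    rintro rfl
    exact hμ₀ ⟨0, by rw [mul_zero]⟩
  obtain ⟨c, hc⟩ := hsqF μ₀
  have hc0 : c ≠ 0 := by
    rintro rfl
    rw [mul_zero] at hc
    exact hμ0 ((map_eq_zero j).mp hc)
  have hmul : lam * σ lam = c * c := by rw [← hμ, hc]
  have hσc : σ (c * c) = c * c := by
    rw [← hc]
    exact (hι _).mpr ⟨μ₀, rfl⟩
  obtain ⟨K, hKdef⟩ : ∃ K : ↥(Geo.quadSimilarityGroup (F := F) ⇑(plusForm (k + 1) F)),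
      K = kStar k c lam hc0 hlam0 := ⟨_, rfl⟩
  have hKe : eps (k + 1) K = 1 := by rw [hKdef]; exact eps_kStar k c lam h2 hc0 hlam0
  have hKm : Cfsg.Agent.Lib.Helper5.OAut.mult (plusForm (k + 1) F) (v1 (k + 1) 0)
      (K : GL (Fin (k + 1) ⊕ Fin (k + 1)) F) = c * c := by
    rw [hKdef]; exact mult_kStar k c lam hc0 hlam0 hw₁
  have hKtw := kStar_twist k c lam (σ lam) hc0 hlam0 hmul σ hσc rfl (hσσ lam)
  rw [← hKdef] at hKtw
  obtain ⟨G₃, hG₃def⟩ : ∃ G₃ : ↥(Geo.quadSimilarityGroup (F := F)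
      ⇑(genForm (binForm (ω + ω') (ω * ω')) k)), G₃ = simWinv k ω ω' hne K := ⟨_, rfl⟩
  have hG₃W : simW k ω ω' hne G₃ = K := by rw [hG₃def]; exact simW_simWinv k ω ω' hne K
  have hG₃fix : sGI σ (G₃ : GL ((Fin k ⊕ Fin k) ⊕ Fin 2) F) = G₃ := by
    rw [hG₃def]; exact sGI_simWinv k ω ω' hne σ h1 h2' K hKtw
  obtain ⟨hstar, hhstar⟩ := exists_glmapI_eq σ j hι (G₃ : GL ((Fin k ⊕ Fin k) ⊕ Fin 2) F) hG₃fix
  have hhs : hstar ∈ Geo.quadSimilarityGroup (F := F₀) ⇑(genForm (binForm a₀ b₀) k) :=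
    (glmap_mem_GO_iff j (genForm (binForm a₀ b₀) k) hbc hw₀' hstar).mpr (by
      rw [hhstar]; exact G₃.2)
  have hms : Cfsg.Agent.Lib.Helper5.OAut.mult (genForm (binForm a₀ b₀) k) (xvec k) hstar = μ₀ := by
    apply j.injective
    rw [← mult_glmap j (genForm (binForm a₀ b₀) k) hbc (xvec k) hstar, hx, hhstar,
      ← mult_simW k ω ω' hne hw₁ hw₃ G₃, hG₃W, hKm, hc]
  have hPs : Pdet (genForm (binForm a₀ b₀) k) (xvec k) (k + 1) hstar := by
    rw [← Pdet_glmap j (genForm (binForm a₀ b₀) k) hbc (xvec k) hstar, hx, hhstar,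
      ← Pdet_simW k ω ω' hne hw₁ hw₃ (k + 1) G₃, hG₃W, ← eps_eq_one_iff_Pdet (k + 1) h2 hw₁]
    exact hKe
  -- the automorphism induced by the decisive element
  have hκ : conjGO (plusForm (k + 1) F) K = phiW k ω ω' hne (conjGO _ G₃) := by
    rw [phiW_conjGO, hG₃W]
  have hκD : conjGO (plusForm (k + 1) F) K ∈ dPlus (k + 1) :=
    (mem_dPlus_iff _ _).2 ⟨K, hKe, rfl⟩
  have hκx : conjGO (plusForm (k + 1) F) K *
      gfStd (k + 1) σ (vStar (F := F) k) (plusForm_vStar_ne k) =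
      gfStd (k + 1) σ (vStar (F := F) k) (plusForm_vStar_ne k) *
        conjGO (plusForm (k + 1) F) K := by
    have h3 : conjGO (genForm (binForm (ω + ω') (ω * ω')) k) G₃ ∈
        Subgroup.centralizer {fO σ (minus_vm (ω + ω') (ω * ω') k σ hσa hσb)} :=
      ((cent_fO_iff hQ hfam hk h5 hw₃ σ (minus_vm (ω + ω') (ω * ω') k σ hσa hσb) 2
        (by norm_num) hord _).mpr ⟨G₃, hG₃fix, rfl⟩).2
    rw [mem_cent_single] at h3
    rw [hκ, ← e1, ← map_mul, ← map_mul, h3]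
  -- the dichotomy
  have hdich : ∀ c' ∈ dPlus (k + 1),
      c' * gfStd (k + 1) σ (vStar (F := F) k) (plusForm_vStar_ne k) =
        gfStd (k + 1) σ (vStar (F := F) k) (plusForm_vStar_ne k) * c' →
      c' ∈ Inn (POmega F ⇑(plusForm (k + 1) F)) ∨
        c' * (conjGO (plusForm (k + 1) F) K)⁻¹ ∈ Inn (POmega F ⇑(plusForm (k + 1) F)) := by
    intro c' hc'D hc'x
    rw [← hmap] at hc'D
    obtain ⟨c₃, hc₃D, rfl⟩ := hc'D
    have hc₃x : c₃ ∈ Subgroup.centralizer
        {fO σ (minus_vm (ω + ω') (ω * ω') k σ hσa hσb)} := by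
      rw [mem_cent_single]
      apply (phiW k ω ω' hne).injective
      rw [map_mul, map_mul, e1]
      exact hc'x.symm
    obtain ⟨g, hgfix, rfl⟩ := (cent_fO_iff hQ hfam hk h5 hw₃ σ
      (minus_vm (ω + ω') (ω * ω') k σ hσa hσb) 2 (by norm_num) hord _).mp
      ⟨Dcls_le_range hP hc₃D, hc₃x⟩
    have hgP : Pdet (genForm (binForm (ω + ω') (ω * ω')) k) (xvec k) (k + 1)
        (g : GL ((Fin k ⊕ Fin k) ⊕ Fin 2) F) :=
      (conjGO_mem_Dcls_iff hQ hfam hk h5 hw₃ hP g).mp hc₃D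
    obtain ⟨h₀, hh₀e⟩ := exists_glmapI_eq σ j hι (g : GL ((Fin k ⊕ Fin k) ⊕ Fin 2) F) hgfix
    have hh₀ : h₀ ∈ Geo.quadSimilarityGroup (F := F₀) ⇑(genForm (binForm a₀ b₀) k) :=
      (glmap_mem_GO_iff j (genForm (binForm a₀ b₀) k) hbc hw₀' h₀).mpr (by
        rw [hh₀e]; exact g.2)
    have hP₀h : Pdet (genForm (binForm a₀ b₀) k) (xvec k) (k + 1) h₀ := by
      rw [← Pdet_glmap j (genForm (binForm a₀ b₀) k) hbc (xvec k) h₀, hx, hh₀e]
      exact hgP
    by_cases hsq : IsSquare (Cfsg.Agent.Lib.Helper5.OAut.mult (genForm (binForm a₀ b₀) k)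
        (xvec k) h₀)
    · left
      rw [← hinn]
      exact ⟨_, conjGO_glmap_mem_inn j (genForm (binForm a₀ b₀) k) h2 hQ hQ₀
        (card_minus_index k) (by omega) hw₀' hbc hsqF h₀ hh₀ hP₀h hsq g hh₀e.symm, rfl⟩
    · right
      have hmem : h₀ * hstar⁻¹ ∈ Geo.quadSimilarityGroup (F := F₀)
          ⇑(genForm (binForm a₀ b₀) k) := Subgroup.mul_mem _ hh₀ (Subgroup.inv_mem _ hhs)
      have hPq : Pdet (genForm (binForm a₀ b₀) k) (xvec k) (k + 1) (h₀ * hstar⁻¹) :=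
        hP₀.mul _ _ hh₀ (Subgroup.inv_mem _ hhs) hP₀h (hP₀.inv _ hhs hPs)
      have hm0 : Cfsg.Agent.Lib.Helper5.OAut.mult (genForm (binForm a₀ b₀) k) (xvec k)
          (h₀ * hstar⁻¹) ≠ 0 := mult_ne_zero hw₀' hmem
      have hsq' : IsSquare (Cfsg.Agent.Lib.Helper5.OAut.mult (genForm (binForm a₀ b₀) k)
          (xvec k) (h₀ * hstar⁻¹)) := by
        have h3 := mult_mul hw₀' hmem (h := hstar)
        rw [inv_mul_cancel_right, hms] at h3
        have h4 := congrArg sgn h3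
        rw [sgn_mul hm0 hμ0, sgn_of_not_isSquare hsq, sgn_of_not_isSquare hμ₀] at h4
        rw [← sgn_eq_one_iff]
        have h5' : (1 : ℤˣ) * -1 = sgn (Cfsg.Agent.Lib.Helper5.OAut.mult
            (genForm (binForm a₀ b₀) k) (xvec k) (h₀ * hstar⁻¹)) * -1 := by
          rw [one_mul]
          exact h4
        exact (mul_right_cancel h5').symm
      have hmapq : (g * G₃⁻¹ : ↥(Geo.quadSimilarityGroup (F := F)
          ⇑(genForm (binForm (ω + ω') (ω * ω')) k))) =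
          ((⟨Matrix.GeneralLinearGroup.map j (h₀ * hstar⁻¹),
            (glmap_mem_GO_iff j (genForm (binForm a₀ b₀) k) hbc hw₀' _).mp hmem⟩ :
            ↥(Geo.quadSimilarityGroup (F := F) ⇑(genForm (binForm (ω + ω') (ω * ω')) k)))) := by
        apply Subtype.ext
        show (g : GL ((Fin k ⊕ Fin k) ⊕ Fin 2) F) *
          (G₃ : GL ((Fin k ⊕ Fin k) ⊕ Fin 2) F)⁻¹ = Matrix.GeneralLinearGroup.map j (h₀ * hstar⁻¹)
        rw [map_mul, map_inv, hh₀e, hhstar]
      have h6 := conjGO_glmap_mem_inn j (genForm (binForm a₀ b₀) k) h2 hQ hQ₀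
        (card_minus_index k) (by omega) hw₀' hbc hsqF (h₀ * hstar⁻¹) hmem hPq hsq'
        (g * G₃⁻¹) (by rw [hmapq])
      have h7 : conjGO (genForm (binForm (ω + ω') (ω * ω')) k) g *
          (conjGO (genForm (binForm (ω + ω') (ω * ω')) k) G₃)⁻¹ ∈
          Inn (POmega F ⇑(genForm (binForm (ω + ω') (ω * ω')) k)) := by
        rw [← map_inv, ← map_mul]
        exact h6
      show phiW k ω ω' hne (conjGO (genForm (binForm (ω + ω') (ω * ω')) k) g) *
        (conjGO (plusForm (k + 1) F) K)⁻¹ ∈ Inn (POmega F ⇑(plusForm (k + 1) F))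
      rw [hκ, ← map_inv, ← map_mul, ← hinn]
      exact ⟨_, h7, rfl⟩
  -- the count
  have hidx := relIndex_inn_dPlus_four (k + 1) q₀ hF h2 (by omega)
  have hneg := negOne_mem_of_sq (F := F) (k + 1) q₀ hF h2 (by omega)
  have hle : Inn (POmega F ⇑(plusForm (k + 1) F)) ≤ dPlus (k + 1) := by
    intro β hβ
    rw [inn_eq] at hβ
    obtain ⟨s, hs, rfl⟩ := hβ
    rw [mem_dPlus_iff]
    refine ⟨inclO (plusForm (k + 1) F) s, eps_inclO_of_mem_commutator (k + 1) s hs, ?_⟩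
    rw [← conjGO_comp_inclO]
    rfl
  have hdec := conjGO_kStar_mem_inn_iff k hk hneg c lam hc0 hlam0
  rw [← hKdef, decisive_arith j q₀ hF₀ hF h2 lam c μ₀ hμ₀ hc.symm hlam k] at hdec
  constructor
  · intro hcase
    have hκK := hdec.mpr hcase
    rw [splitClassCount_of_cent_le _ _ hle, hidx]
    intro c' hc'D hc'x
    rcases hdich c' hc'D hc'x with h | h
    · exact h
    · have := Subgroup.mul_mem _ h hκK
      rwa [inv_mul_cancel_right] at this
  · intro hcase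
    have hκK : conjGO (plusForm (k + 1) F) K ∉ Inn (POmega F ⇑(plusForm (k + 1) F)) :=
      fun h => hcase (hdec.mp h)
    have h8 := splitClassCount_of_cent_two _ _ hle _ _ hκD hκx hκK hdich
    rw [hidx] at h8
    omega

end final

end Cfsg.Agent.Lib.Helper5.PlusField
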