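import Mathlib
import Cfsg.Prelude
import Cfsg.Agent.Lib.Helper5.PlusField.GFSplitMain

set_option autoImplicit false
set_option linter.unusedSectionVars false
set_option linter.unusedVariables false

/-! Involutory graph-field automorphisms of `PΩ⁺_{2m}(q)`, `m ≥ 5`: the main theorem. -/

namespace Cfsg.Agent.Lib.Helper5.PlusField

open QuadraticMap Module Matrix Cfsg Cfsg.Agent.Lib.Helper5.MaxTS Cfsg.Agent.Lib.Helper5.OAut
  Cfsg.Agent.Lib.Helper5.Refl Cfsg.Agent.Lib.Helper5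
open Cfsg.Agent.Lib.Helper9.AOR Cfsg.Agent.Lib.Helper9.ASP Cfsg.Agent.Lib.Helper9.AOF
open Cfsg.Agent.Lib.Helper5.SpinorHyp Cfsg.Agent.Lib.Helper5.OmegaSimple
open Cfsg.Agent.Lib.Helper5.IsomReindex Cfsg.Agent.Lib.Helper5.OrthCard
  Cfsg.Agent.Lib.Helper5.OrthPlane Cfsg.Agent.Lib.Helper5.SpinorHyp2 Cfsg.Agent.S0294
  Cfsg.Agent.Lib.Helper5.Dickson Cfsg.Agent.Lib.Helper5.SpinorNorm
open Cfsg.Agent.Lib.Helper9.APSL (mem_cent_single exists_fixed_embedding involution_eq_pow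
  centInfConjEquiv splitClassCount_conj)

section main
variable {F : Type*} [Field F] [Fintype F]

set_option maxHeartbeats 1600000 in
/-- **involutory graph-field automorphisms of `PΩ⁺_{2m}(q)`**, stated for an unbundled copy `q`
of the hyperbolic form in dimension `2 (k + 1)` -/
theorem gf_main {k : ℕ} (hk : 4 ≤ k) (q : (Fin (k + 1) ⊕ Fin (k + 1) → F) → F)
    (hq : ⇑(plusForm (k + 1) F) = q) {p f : ℕ} [Fact p.Prime]
    (hF : Fintype.card F = p ^ f) (x : MulAut (POmega F q))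
    (hx : ∃ (α γ φ : MulAut (POmega F q)) (σ : F ≃+* F) (v : Fin (k + 1) ⊕ Fin (k + 1) → F)
      (rr : GL (Fin (k + 1) ⊕ Fin (k + 1)) F),
      σ ≠ RingEquiv.refl F ∧ q v ≠ 0 ∧ (∀ i, σ (v i) = v i) ∧
      (rr : Matrix (Fin (k + 1) ⊕ Fin (k + 1)) (Fin (k + 1) ⊕ Fin (k + 1)) F) =
        reflectionMatrix q v ∧
      IsInducedBySemilinearPOmega q rr (RingEquiv.refl F) γ ∧
      IsFieldAutPOmegaOf q σ φ ∧ α * x * α⁻¹ = γ * φ)
    (hx2 : orderOf x = 2) (F₀ : Type*) [Field F₀] [Fintype F₀]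
    (hF₀ : Fintype.card F₀ = p ^ (f / 2)) :
    Even f ∧
    (∀ y : MulAut (POmega F q),
      (∃ (α γ φ : MulAut (POmega F q)) (σ : F ≃+* F) (v : Fin (k + 1) ⊕ Fin (k + 1) → F)
        (rr : GL (Fin (k + 1) ⊕ Fin (k + 1)) F),
        σ ≠ RingEquiv.refl F ∧ q v ≠ 0 ∧ (∀ i, σ (v i) = v i) ∧
        (rr : Matrix (Fin (k + 1) ⊕ Fin (k + 1)) (Fin (k + 1) ⊕ Fin (k + 1)) F) =
          reflectionMatrix q v ∧
        IsInducedBySemilinearPOmega q rr (RingEquiv.refl F) γ ∧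
        IsFieldAutPOmegaOf q σ φ ∧ α * y * α⁻¹ = γ * φ) →
      orderOf y = 2 → IsConjUnder (inndiagGen q) x y) ∧
    (∃ a₀ b₀ : F₀,
      (∀ z₁ z₂ : F₀, z₁ ^ 2 + a₀ * z₁ * z₂ + b₀ * z₂ ^ 2 = 0 → z₁ = 0 ∧ z₂ = 0) ∧
      Nonempty (↥(inndiagGen q ⊓ Subgroup.centralizer {x}) ≃*
        ↥(inndiagGenP (Cfsg.quadFormMinus k F₀ a₀ b₀)
          (PreservesSingularClassesMinus k a₀ b₀)))) ∧
    (p = 2 → splitClassCount (inndiagGen q) (Inn (POmega F q)) x = 1) ∧
    ((p ≠ 2 ∧ Odd (k + 1) ∧ p ^ (f / 2) % 4 = 1) →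
      splitClassCount (inndiagGen q) (Inn (POmega F q)) x = 4) ∧
    ((p ≠ 2 ∧ ¬ (Odd (k + 1) ∧ p ^ (f / 2) % 4 = 1)) →
      splitClassCount (inndiagGen q) (Inn (POmega F q)) x = 2) := by
  subst hq
  haveI := charP_of_card' (F := F) p f hF
  have hm : 5 ≤ k + 1 := by omega
  have hγ : gammaPOmega F ⇑(plusForm (k + 1) F) = ⊤ := by
    rw [coe_plusForm]
    exact Cfsg.Agent.S2695.result hm
  rw [inndiagGen_eq_dPlus]
  haveI hD := dPlus_normal (F := F) (k + 1) (by omega) hγ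
  obtain ⟨hev, hconj⟩ := gf_even_and_conj (k + 1) p f hF hm hγ x hx hx2
  refine ⟨hev, hconj, ?_⟩
  -- reduction to the standard automorphism
  obtain ⟨α, σ, v, hv, hord, hσv, e⟩ := exists_gfStd_of_class (k + 1) p hm hγ x hx hx2
  obtain ⟨d, hdD, hd⟩ := gfStd_change (k + 1) hm σ hord v hv hσv (vStar k)
    (plusForm_vStar_ne k) (vm_vStar k σ)
  have hβ : (d * α) * x * (d * α)⁻¹ =
      gfStd (k + 1) σ (vStar (F := F) k) (plusForm_vStar_ne k) := by
    calc (d * α) * x * (d * α)⁻¹ = d * (α * x * α⁻¹) * d⁻¹ := by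
          simp only [_root_.mul_inv_rev, mul_assoc]
      _ = d * gfStd (k + 1) σ v hv * d⁻¹ := by rw [e]
      _ = _ := hd.symm
  have hσ1 : σ ≠ 1 := by
    intro h
    rw [h, orderOf_one] at hord
    omega
  have hσ2 : σ * σ = 1 := by
    rw [← pow_two, ← hord]
    exact pow_orderOf_eq_one σ
  obtain ⟨-, hpow⟩ := involution_eq_pow p f hF σ hσ1 hσ2
  obtain ⟨-, j, hι⟩ := exists_fixed_embedding p f hF σ 2 (by norm_num) hord F₀ hF₀
  have hcount : splitClassCount (dPlus (k + 1)) (Inn (POmega F ⇑(plusForm (k + 1) F))) x =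
      splitClassCount (dPlus (k + 1)) (Inn (POmega F ⇑(plusForm (k + 1) F)))
        (gfStd (k + 1) σ (vStar (F := F) k) (plusForm_vStar_ne k)) := by
    rw [← hβ, splitClassCount_conj]
  refine ⟨?_, ?_, ?_, ?_⟩
  · -- the centraliser
    obtain ⟨a₀, b₀, hab₀, ⟨E⟩⟩ := gf_cent k (by omega) j σ hord hι
    refine ⟨a₀, b₀, hab₀, ?_⟩
    apply nonempty_equiv_inndiag_minus (by omega) hab₀ _ (genForm_coe_minus a₀ b₀ k).symm
    exact ⟨(centInfConjEquiv (dPlus (k + 1)) (d * α) x).trans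
      ((MulEquiv.subgroupCongr (by rw [hβ])).trans E)⟩
  · -- characteristic two
    intro hp2
    subst hp2
    have hchar : ringChar F = 2 := ringChar.eq F 2
    rw [dPlus_eq_inn_two (k + 1) hchar (by omega)]
    apply splitClassCount_eq_one
    exact le_sup_right
  · rintro ⟨hp2, hodd, hmod⟩
    have h2 : (2 : F) ≠ 0 := by
      intro h
      apply hp2
      have h3 : (p : ℕ) ∣ 2 := (CharP.cast_eq_zero_iff F p 2).mp (by exact_mod_cast h)
      exact (Nat.prime_dvd_prime_iff_eq Fact.out Nat.prime_two).mp h3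
    have hFsq : Fintype.card F = (p ^ (f / 2)) ^ 2 := by
      obtain ⟨e', he'⟩ := hev
      rw [hF, ← pow_mul]
      congr 1
      omega
    have hkev : Even k := by
      rcases Nat.even_or_odd k with h | h
      · exact h
      · exfalso
        exact (Nat.not_even_iff_odd.mpr hodd) (h.add_one)
    rw [hcount]
    exact (gf_split_odd k h2 (by omega) (p ^ (f / 2)) hF₀ hFsq j σ hord hι hpow).1 ⟨hkev, hmod⟩
  · rintro ⟨hp2, hcase⟩
    have h2 : (2 : F) ≠ 0 := by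
      intro h
      apply hp2
      have h3 : (p : ℕ) ∣ 2 := (CharP.cast_eq_zero_iff F p 2).mp (by exact_mod_cast h)
      exact (Nat.prime_dvd_prime_iff_eq Fact.out Nat.prime_two).mp h3
    have hFsq : Fintype.card F = (p ^ (f / 2)) ^ 2 := by
      obtain ⟨e', he'⟩ := hev
      rw [hF, ← pow_mul]
      congr 1
      omega
    rw [hcount]
    apply (gf_split_odd k h2 (by omega) (p ^ (f / 2)) hF₀ hFsq j σ hord hι hpow).2
    rintro ⟨hkev, hmod⟩
    exact hcase ⟨hkev.add_one, hmod⟩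

end main

end Cfsg.Agent.Lib.Helper5.PlusField
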